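import Mathlib
import Groth.Agent.AmpleVan.ThickPush
import Groth.Agent.KZ.ClosedDev
import Groth.Agent.QCoh.FlatOver
import Groth.Agent.QCoh.DevissageTheta
import Groth.Agent.KFlatLib.Scheme.ProjModule
import Groth.Prelude.Def_TFOne

/-!
The special fibre of an elementary modification of a flat module along a quotient of its special fibre.
-/

set_option autoImplicit false
set_option linter.style.haveILetI false
set_option linter.unusedSectionVars false
set_option backward.isDefEq.respectTransparency false
set_option backward.isDefEq.respectTransparency.types false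

universe u

open CategoryTheory CategoryTheory.Limits AlgebraicGeometry TopologicalSpace Opposite

namespace Groth.Agent.TFOneX

section Closed

variable {X Z : Scheme.{u}} (i : Z ⟶ X) [IsClosedImmersion i]

local notation "adj" => Scheme.Modules.pullbackPushforwardAdjunction i

theorem epi_unit {A : X.Modules} (hA : Coh.IsQCoh A) : Epi ((adj).unit.app A) := by
  refine Preadditive.epi_of_cancel_zero _ fun {N} g hg => QCoh.hom_eq_zero_of_affine g fun U hU s => ?_
  obtain ⟨r, rfl⟩ := (QCoh.unit_app_closed i hA hU).1 s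
  exact congr(($hg).app U r)

theorem epi_push {A B : Z.Modules} (g : A ⟶ B) [Epi g] : Epi ((Scheme.Modules.pushforward i).map g) := by
  haveI : PreservesColimitsOfShape WalkingSpan (Scheme.Modules.pushforward i) :=
    KFlatLib.preservesColimitsOfShape_push i _
  exact Functor.map_epi _ g

theorem mono_push {A B : Z.Modules} (g : A ⟶ B) [Mono g] : Mono ((Scheme.Modules.pushforward i).map g) := by
  haveI : (Scheme.Modules.pushforward i).IsRightAdjoint := (adj).isRightAdjoint
  exact Functor.map_mono _ g

/-- Kernels may be compared after pushing forward and composing with the unit. -/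
theorem kernel_le [IsNoetherian X] {A : X.Modules} (hA : Coh.IsCoh A) {B C : Z.Modules} (hB : Coh.IsQCoh B)
    (g : (Scheme.Modules.pullback i).obj A ⟶ B) (c : (Scheme.Modules.pullback i).obj A ⟶ C)
    (h : kernel.ι ((adj).unit.app A ≫ (Scheme.Modules.pushforward i).map g) ≫
      (adj).unit.app A ≫ (Scheme.Modules.pushforward i).map c = 0) :
    kernel.ι g ≫ c = 0 := by
  haveI := epi_unit i hA.1
  haveI : IsLocallyNoetherian Z := LocallyOfFiniteType.isLocallyNoetherian i
  have hA' : Coh.IsCoh ((Scheme.Modules.pullback i).obj A) := KZ.ClosedDev.isCoh_pull i hA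
  have hJ : Coh.IsCoh (Abelian.coimage g) :=
    QCoh.isCoh_cokernel (QCoh.isQCoh_kernel hA'.1 hB g) hA' _
  haveI := mono_push i (Abelian.factorThruCoimage g)
  haveI := epi_push i (Abelian.coimage.π g)
  let v := (adj).unit.app A ≫ (Scheme.Modules.pushforward i).map (Abelian.coimage.π g)
  haveI : Epi v := epi_comp _ _
  have hvg : v ≫ (Scheme.Modules.pushforward i).map (Abelian.factorThruCoimage g) =
      (adj).unit.app A ≫ (Scheme.Modules.pushforward i).map g := by
    simp only [v, Category.assoc, ← Functor.map_comp, Abelian.coimage.fac]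
  have hkv : kernel.ι v ≫ (adj).unit.app A ≫ (Scheme.Modules.pushforward i).map c = 0 := by
    have h0 : kernel.ι v ≫ (adj).unit.app A ≫ (Scheme.Modules.pushforward i).map g = 0 := by
      rw [← hvg, ← Category.assoc, kernel.condition, zero_comp]
    rw [← kernel.lift_ι _ (kernel.ι v) h0, Category.assoc, h, comp_zero]
  obtain ⟨h', hh'⟩ := (KZ.ClosedDev.push_map_bijective i (QCoh.isCoh_push i hJ).1).2
    (Abelian.epiDesc v _ hkv)
  have hc : c = Abelian.coimage.π g ≫ h' := by
    refine ((adj).homEquiv A C).injective ?_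
    rw [Adjunction.homEquiv_unit, Adjunction.homEquiv_unit, Functor.map_comp, hh', ← Category.assoc]
    exact (Abelian.comp_epiDesc v _ hkv).symm
  rw [hc, ← Category.assoc, show kernel.ι g ≫ Abelian.coimage.π g = 0 from cokernel.condition _, zero_comp]

end Closed

section Fibre

variable {R : Type u} [CommRing R] [IsDomain R] [IsDiscreteValuationRing R]
  {X : Scheme.{u}} [X.Over (Spec (CommRingCat.of R))]
  {Xs : Scheme.{u}} [Xs.Over (Spec (CommRingCat.of (IsLocalRing.ResidueField R)))] {i : Xs ⟶ X}
  (hsq : IsPullback i (Xs ↘ Spec (CommRingCat.of (IsLocalRing.ResidueField R)))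
    (X ↘ Spec (CommRingCat.of R)) (Spec.map (CommRingCat.ofHom (IsLocalRing.residue R))))

include hsq in
theorem isClosedImmersion_fibre : IsClosedImmersion i := by
  haveI : IsClosedImmersion (Spec.map (CommRingCat.ofHom (IsLocalRing.residue R))) :=
    IsClosedImmersion.spec_of_surjective _ IsLocalRing.residue_surjective
  exact MorphismProperty.of_isPullback hsq.flip inferInstance

include hsq in
theorem isProper_fibre [IsProper (X ↘ Spec (CommRingCat.of R))] :
    IsProper (Xs ↘ Spec (CommRingCat.of (IsLocalRing.ResidueField R))) :=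
  MorphismProperty.of_isPullback hsq inferInstance

variable {ϖ : R} (hϖ : IsLocalRing.maximalIdeal R = Ideal.span {ϖ})

include hsq hϖ in
theorem unit_app_eq_zero_iff [IsClosedImmersion i] {A : X.Modules} (hA : Coh.IsQCoh A) {U : X.Opens}
    (hU : IsAffineOpen U) (x : Γ(A, U)) :
    ((Scheme.Modules.pullbackPushforwardAdjunction i).unit.app A).app U x = 0 ↔
      ∃ t, (Formal.smulMod R A ϖ).app U t = x := by
  have hk : i.ker.ideal ⟨U, hU⟩ = (IsLocalRing.maximalIdeal R).map (AmpleVan.scal R U) :=
    AmpleVan.ker_ideal_of_isPullback (J := IsLocalRing.maximalIdeal R)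
      (q := Xs ↘ Spec (CommRingCat.of (IsLocalRing.ResidueField R))) hsq ⟨U, hU⟩
  rw [(QCoh.unit_app_closed i hA hU).2 x, hk, hϖ, Ideal.map_span, Set.image_singleton,
    Submodule.ideal_span_singleton_smul, Submodule.mem_smul_pointwise_iff_exists]
  refine ⟨fun ⟨t, _, ht⟩ => ⟨t, ?_⟩, fun ⟨t, ht⟩ => ⟨t, trivial, ?_⟩⟩
  · rw [AmpleVan.smulMod_app_affine]; exact ht
  · rw [← ht, AmpleVan.smulMod_app_affine]; rfl

include hsq hϖ in
theorem smul_unit [IsClosedImmersion i] {A : X.Modules} (hA : Coh.IsQCoh A) :
    Formal.smulMod R A ϖ ≫ (Scheme.Modules.pullbackPushforwardAdjunction i).unit.app A = 0 :=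
  QCoh.hom_eq_zero_of_affine _ fun U hU t => (unit_app_eq_zero_iff hsq hϖ hA hU _).2 ⟨t, rfl⟩

include hsq hϖ in
theorem kernel_unit [IsClosedImmersion i] {A : X.Modules} (hA : Coh.IsQCoh A) :
    kernel.ι ((Scheme.Modules.pullbackPushforwardAdjunction i).unit.app A) ≫
      cokernel.π (Formal.smulMod R A ϖ) = 0 := by
  refine QCoh.hom_eq_zero_of_affine _ fun U hU t => ?_
  obtain ⟨s, hs⟩ := (unit_app_eq_zero_iff hsq hϖ hA hU
    ((kernel.ι ((Scheme.Modules.pullbackPushforwardAdjunction i).unit.app A)).app U t)).1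
      congr($(kernel.condition ((Scheme.Modules.pullbackPushforwardAdjunction i).unit.app A)).app U t)
  show (cokernel.π (Formal.smulMod R A ϖ)).app U
    ((kernel.ι ((Scheme.Modules.pullbackPushforwardAdjunction i).unit.app A)).app U t) = 0
  rw [← hs]
  exact congr($(cokernel.condition (Formal.smulMod R A ϖ)).app U s)

theorem mono_smulMod {A : X.Modules} (hA : Coh.IsQCoh A)
    (hflat : FlatMod.IsFlatOver (X ↘ Spec (CommRingCat.of R)) A) (hne : ϖ ≠ 0) :
    Mono (Formal.smulMod R A ϖ) := by
  refine Preadditive.mono_of_cancel_zero _ fun {T} g hg => QCoh.hom_eq_zero_of_affine g fun U hU t => ?_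
  have hle : U ≤ (X ↘ Spec (CommRingCat.of R)) ⁻¹ᵁ ⊤ := le_top
  letI : Module Γ(Spec (CommRingCat.of R), ⊤) Γ(A, U) :=
    Module.compHom _ ((X ↘ Spec (CommRingCat.of R)).appLE ⊤ U hle).hom
  haveI : Module.Flat Γ(Spec (CommRingCat.of R), ⊤) Γ(A, U) :=
    (QCoh.isFlatOver_iff (X ↘ Spec (CommRingCat.of R)) hA).1 hflat U ⊤ hle hU (isAffineOpen_top _)
  haveI : IsDomain Γ(Spec (CommRingCat.of R), ⊤) :=
    (Scheme.ΓSpecIso (CommRingCat.of R)).commRingCatIsoToRingEquiv.injective.isDomain
      (Scheme.ΓSpecIso (CommRingCat.of R)).commRingCatIsoToRingEquiv.toRingHom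
  let c : Γ(Spec (CommRingCat.of R), ⊤) := (Scheme.ΓSpecIso (CommRingCat.of R)).inv ϖ
  have hc : c ≠ 0 := fun h => hne <| by
    have := congrArg (Scheme.ΓSpecIso (CommRingCat.of R)).hom h
    simpa [c] using this
  have h0 : (Formal.smulMod R A ϖ).app U (g.app U t) = 0 := congr(($hg).app U t)
  have h1 : c • g.app U t = c • (0 : Γ(A, U)) := by
    rw [smul_zero]
    exact h0
  haveI : Module.IsTorsionFree Γ(Spec (CommRingCat.of R), ⊤) Γ(A, U) := Module.Flat.isTorsionFree (R := Γ(Spec (CommRingCat.of R), ⊤)) (M := Γ(A, U))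
  exact IsRegular.isSMulRegular (isRegular_iff_ne_zero.2 hc) h1

include hsq hϖ in
/-- The special fibre of the kernel of `A ⟶ i_* i^* A ⟶ i_* G` is an extension of the kernel of the
quotient by the quotient. -/
theorem exists_fibre_sequence [IsClosedImmersion i] [IsNoetherian X] {A : X.Modules} (hA : Coh.IsCoh A)
    (hflat : FlatMod.IsFlatOver (X ↘ Spec (CommRingCat.of R)) A) (hne : ϖ ≠ 0) {G : Xs.Modules}
    (hG : Coh.IsCoh G) (π : (Scheme.Modules.pullback i).obj A ⟶ G) [Epi π] {A' : X.Modules}
    (hA' : A' = kernel ((Scheme.Modules.pullbackPushforwardAdjunction i).unit.app A ≫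
      (Scheme.Modules.pushforward i).map π)) :
    Coh.IsCoh A' ∧ ∃ (α : G ⟶ (Scheme.Modules.pullback i).obj A')
      (β : (Scheme.Modules.pullback i).obj A' ⟶ kernel π) (w : α ≫ β = 0),
      (ShortComplex.mk α β w).ShortExact := by
  subst hA'
  haveI : IsLocallyNoetherian Xs := LocallyOfFiniteType.isLocallyNoetherian i
  let adj := Scheme.Modules.pullbackPushforwardAdjunction i
  let P := Scheme.Modules.pullback i
  let p := adj.unit.app A ≫ (Scheme.Modules.pushforward i).map π
  have hA' : Coh.IsCoh (kernel p) := QCoh.isCoh_kernel hA (QCoh.isCoh_push i hG) p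
  refine ⟨hA', ?_⟩
  haveI := mono_smulMod (ϖ := ϖ) hA.1 hflat hne
  let ι := kernel.ι p
  let θ : A ⟶ kernel p := kernel.lift p (Formal.smulMod R A ϖ) (by
    rw [← Category.assoc, smul_unit hsq hϖ hA.1, zero_comp])
  have hθι : θ ≫ ι = Formal.smulMod R A ϖ := kernel.lift_ι _ _ _
  have hιθ : ι ≫ θ = Formal.smulMod R (kernel p) ϖ := by
    rw [← cancel_mono ι, Category.assoc, hθι, FFun.smulMod_naturality]
    rfl
  haveI : Mono θ := mono_of_mono_fac hθι
  -- the transposes of the pulled back maps
  have htr : ∀ {M N : X.Modules} (g : M ⟶ N),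
      adj.unit.app M ≫ (Scheme.Modules.pushforward i).map (P.map g) = g ≫ adj.unit.app N :=
    fun g => (adj.unit.naturality g).symm
  have hzero : ∀ {M N : X.Modules} (g : M ⟶ N), g ≫ adj.unit.app N = 0 → P.map g = 0 := by
    intro M N g hg
    refine (adj.homEquiv M _).injective ?_
    rw [Adjunction.homEquiv_unit, Adjunction.homEquiv_unit, Functor.map_zero, comp_zero, htr, hg]
  have h12 : P.map ι ≫ π = 0 := by
    refine (adj.homEquiv _ _).injective ?_
    rw [Adjunction.homEquiv_unit, Adjunction.homEquiv_unit, Functor.map_zero, comp_zero, Functor.map_comp,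
      ← Category.assoc, htr, Category.assoc]
    exact kernel.condition p
  -- the pullback of `ι` is onto the kernel of `π`
  have hex : kernel.ι π ≫ cokernel.π (P.map ι) = 0 := by
    refine kernel_le i hA hG.1 π _ ?_
    show ι ≫ adj.unit.app A ≫ _ = 0
    refine (Category.assoc _ _ _).symm.trans ((congrArg (· ≫ _) (htr ι).symm).trans ?_)
    rw [Category.assoc, ← Functor.map_comp, cokernel.condition, Functor.map_zero, comp_zero]
  let β : P.obj (kernel p) ⟶ kernel π := kernel.lift π (P.map ι) h12
  haveI : Epi β := by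
    refine Preadditive.epi_of_cancel_zero _ fun {T} g hg => ?_
    obtain ⟨T', c, hc⟩ : ∃ (T' : Xs.Modules) (c : T ⟶ T'), Mono c ∧ ∃ e, kernel.ι π ≫ e = g ≫ c :=
      ⟨_, pushout.inl g (kernel.ι π), inferInstance, pushout.inr g (kernel.ι π),
        (pushout.condition (f := g) (g := kernel.ι π)).symm⟩
    obtain ⟨hmono, e, he⟩ := hc
    haveI := hmono
    have h1 : P.map ι ≫ e = 0 := by
      rw [← kernel.lift_ι π (P.map ι) h12, Category.assoc, he, ← Category.assoc, hg, zero_comp]
    have h2 : kernel.ι π ≫ e = 0 := by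
      rw [← cokernel.π_desc (P.map ι) e h1, ← Category.assoc, hex, zero_comp]
    rw [← cancel_mono c, zero_comp, ← he, h2]
  -- the pullback of `θ` descends along `π`
  have h21 : P.map θ ≫ P.map ι = 0 := by
    rw [← Functor.map_comp, hθι]
    exact hzero _ (smul_unit hsq hϖ hA.1)
  have h10 : P.map ι ≫ P.map θ = 0 := by
    rw [← Functor.map_comp, hιθ]
    exact hzero _ (smul_unit hsq hϖ hA'.1)
  have hkθ : kernel.ι π ≫ P.map θ = 0 := by
    rw [← cokernel.π_desc (P.map ι) (P.map θ) h10, ← Category.assoc, hex, zero_comp]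
  let α : G ⟶ P.obj (kernel p) := Abelian.epiDesc π (P.map θ) hkθ
  have hπα : π ≫ α = P.map θ := Abelian.comp_epiDesc _ _ _
  have w : α ≫ β = 0 := by
    rw [← cancel_epi π, ← cancel_mono (kernel.ι π)]
    simp only [Category.assoc, zero_comp, comp_zero]
    rw [kernel.lift_ι, reassoc_of% hπα, h21]
  -- sections killed by the modification come from the modification
  haveI : Mono α := by
    have hk : kernel.ι (P.map θ) ≫ π = 0 := by
      refine kernel_le i hA (KZ.ClosedDev.isCoh_pull i hA').1 (P.map θ) _ ?_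
      rw [show adj.unit.app A ≫ (Scheme.Modules.pushforward i).map (P.map θ) = θ ≫ adj.unit.app (kernel p)
        from htr θ]
      let K := kernel.ι (θ ≫ adj.unit.app (kernel p))
      show K ≫ p = 0
      let m : kernel (θ ≫ adj.unit.app (kernel p)) ⟶ kernel (adj.unit.app (kernel p)) :=
        kernel.lift _ (K ≫ θ) (by rw [Category.assoc]; exact kernel.condition _)
      have hKθ : (K ≫ θ) ≫ cokernel.π (Formal.smulMod R (kernel p) ϖ) = 0 := by
        rw [← kernel.lift_ι _ (K ≫ θ) (by rw [Category.assoc]; exact kernel.condition _), Category.assoc,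
          kernel_unit hsq hϖ hA'.1, comp_zero]
      have hmonoS : Mono (Formal.smulMod R (kernel p) ϖ) := by
        rw [← hιθ]; infer_instance
      obtain ⟨l, hl⟩ : ∃ l, l ≫ Formal.smulMod R (kernel p) ϖ = K ≫ θ :=
        ⟨Abelian.monoLift _ _ hKθ, Abelian.monoLift_comp _ _ _⟩
      rw [← hιθ, ← Category.assoc, cancel_mono] at hl
      rw [← hl, Category.assoc]
      show l ≫ ι ≫ p = 0
      rw [kernel.condition, comp_zero]
    refine Preadditive.mono_of_cancel_zero _ fun {T} g hg => ?_
    let P' := pullback g π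
    have h1 : (pullback.snd g π) ≫ P.map θ = 0 := by
      rw [← hπα, ← Category.assoc, ← pullback.condition, Category.assoc, hg, comp_zero]
    have h2 : pullback.snd g π ≫ π = 0 := by
      rw [← kernel.lift_ι _ _ h1, Category.assoc, hk, comp_zero]
    rw [← cancel_epi (pullback.fst g π), comp_zero, pullback.condition, h2]
  have hexact : (ShortComplex.mk α β w).Exact := by
    have hk : kernel.ι (P.map ι) ≫ cokernel.π α = 0 := by
      refine kernel_le i hA' (KZ.ClosedDev.isCoh_pull i hA).1 (P.map ι) _ ?_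
      rw [show adj.unit.app (kernel p) ≫ (Scheme.Modules.pushforward i).map (P.map ι) = ι ≫ adj.unit.app A
        from htr ι]
      let K := kernel.ι (ι ≫ adj.unit.app A)
      have hKι : (K ≫ ι) ≫ cokernel.π (Formal.smulMod R A ϖ) = 0 := by
        rw [← kernel.lift_ι _ (K ≫ ι) (by rw [Category.assoc]; exact kernel.condition _), Category.assoc,
          kernel_unit hsq hϖ hA.1, comp_zero]
      obtain ⟨l, hl⟩ : ∃ l, l ≫ Formal.smulMod R A ϖ = K ≫ ι :=
        ⟨Abelian.monoLift _ _ hKι, Abelian.monoLift_comp _ _ _⟩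
      rw [← hθι, ← Category.assoc, cancel_mono] at hl
      show K ≫ _ = 0
      rw [← hl, Category.assoc, ← Category.assoc θ, ← htr θ, Category.assoc, ← Functor.map_comp, ← hπα,
        Category.assoc, cokernel.condition, comp_zero, Functor.map_zero, comp_zero, comp_zero]
    refine ShortComplex.exact_iff_kernel_ι_comp_cokernel_π_zero _ |>.2 ?_
    show kernel.ι β ≫ cokernel.π α = 0
    have h3 : kernel.ι β ≫ P.map ι = 0 := by
      rw [← kernel.lift_ι π (P.map ι) h12, ← Category.assoc, kernel.condition, zero_comp]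
    rw [← kernel.lift_ι _ _ h3, Category.assoc, hk, comp_zero]
  exact ⟨α, β, w, { exact := hexact }⟩

end Fibre

end Groth.Agent.TFOneX
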