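import Groth.Agent.TFOneX.Modif
import Groth.Agent.TFOneX.Special
import Groth.Agent.PicClLib.Basic

/-!
The numbers `r·χ(F_T) + deg(E|_T)` under elementary modifications.
-/

set_option autoImplicit false
set_option linter.style.haveILetI false
set_option linter.unusedSectionVars false
set_option backward.isDefEq.respectTransparency false
set_option backward.isDefEq.respectTransparency.types false

universe u

open CategoryTheory CategoryTheory.Limits AlgebraicGeometry TopologicalSpace Opposite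

namespace Groth.Agent.TFOneX

theorem isFinLocFreeOfRank_pullback {X Y : Scheme.{u}} (g : Y ⟶ X) {r : ℕ} {E : X.Modules}
    (hE : FlatMod.IsFinLocFreeOfRank r E) :
    FlatMod.IsFinLocFreeOfRank r ((Scheme.Modules.pullback g).obj E) := by
  intro y
  obtain ⟨U, hy, ⟨e⟩⟩ := hE (g y)
  have h : (g ⁻¹ᵁ U).ι ≫ g = (g ∣_ U) ≫ U.ι := (morphismRestrict_ι g U).symm
  obtain ⟨e'⟩ := PicClLib.nonempty_pullback_structureModule (g ∣_ U)
  refine ⟨g ⁻¹ᵁ U, hy, ⟨?_⟩⟩
  exact (Scheme.Modules.restrictFunctorIsoPullback (g ⁻¹ᵁ U).ι).app _ ≪≫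
    (Scheme.Modules.pullbackComp (g ⁻¹ᵁ U).ι g).app E ≪≫
    (Scheme.Modules.pullbackCongr h).app E ≪≫
    ((Scheme.Modules.pullbackComp (g ∣_ U) U.ι).app E).symm ≪≫
    (Scheme.Modules.pullback (g ∣_ U)).mapIso (((Scheme.Modules.restrictFunctorIsoPullback U.ι).app E).symm ≪≫ e) ≪≫
    PreservesCoproduct.iso (Scheme.Modules.pullback (g ∣_ U)) _ ≪≫ Sigma.mapIso (fun _ => e')

variable (k : Type u) [Field k] {X : Scheme.{u}} [X.Over (Spec (CommRingCat.of k))]
  [IsProper (X ↘ Spec (CommRingCat.of k))] [AlgebraicGeometry.IsReduced X]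

/-- `rBeta` in terms of the degree on a subcurve. -/
theorem rBeta_eq (T : Set X) (hT : IsClosed T) (E : X.Modules) (r : ℕ) (G : X.Modules) :
    TFOne.rBeta X k (X ↘ Spec (CommRingCat.of k)) T hT E r G =
      (r : ℤ) * Curv2.euler k X G + degOn k E r T hT := rfl

omit [AlgebraicGeometry.IsReduced X] in
theorem isSubcurve_union {Y Z : Set X} (hY : VecSt.IsSubcurve X Y) (hZ : VecSt.IsSubcurve X Z) :
    VecSt.IsSubcurve X (Y ∪ Z) := by
  obtain ⟨S, hS, hSne, rfl⟩ := hY
  obtain ⟨T, hT, -, rfl⟩ := hZ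
  exact ⟨S ∪ T, Set.union_subset hS hT, hSne.mono Set.subset_union_left, (Set.sUnion_union S T).symm⟩

omit [AlgebraicGeometry.IsReduced X] in
theorem empty_or_subcurve (P : Set X → Prop) :
    ⋃₀ {C | C ∈ irreducibleComponents (X : Type u) ∧ P C} = ∅ ∨
      VecSt.IsSubcurve X (⋃₀ {C | C ∈ irreducibleComponents (X : Type u) ∧ P C}) := by
  rcases Set.eq_empty_or_nonempty {C | C ∈ irreducibleComponents (X : Type u) ∧ P C} with h | h
  · exact Or.inl (by rw [h, Set.sUnion_empty])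
  · exact Or.inr ⟨_, fun C hC => hC.1, h, rfl⟩

omit [AlgebraicGeometry.IsReduced X] in
theorem isClosed_subcurve [AlgebraicGeometry.IsNoetherian X] (P : Set X → Prop) :
    IsClosed (⋃₀ {C | C ∈ irreducibleComponents (X : Type u) ∧ P C}) := by
  rw [Set.sUnion_eq_biUnion]
  exact (TopologicalSpace.NoetherianSpace.finite_irreducibleComponents.subset fun C hC => hC.1).isClosed_biUnion
    fun C hC => isClosed_of_mem_irreducibleComponents C hC.1

theorem degOn_empty {E : X.Modules} {r : ℕ} (hE : FlatMod.IsFinLocFreeOfRank r E) :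
    degOn k E r (∅ : Set X) isClosed_empty = 0 := by
  haveI := CurveCohLib.isNoetherian_of_proper (k := k) (X := X)
  haveI := isLocallyNoetherian_subsch (∅ : Set X) isClosed_empty
  rw [degOn_eq k hE]
  exact (CurvePsi.eulerPsi k hE).zero (isCoh_pushStructure _ _)
    fun x hx => absurd hx (notMem_support_push isClosed_empty QCoh.isCoh_structureModule' id)

theorem isQuotOn_id [AlgebraicGeometry.IsNoetherian X] {M : X.Modules} (hc : Coh.IsCoh M) (ht : TorSh.IsTorsionFree M)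
    (hrk : TFOne.IsRkOne X M) : TFOne.IsQuotOn X M Set.univ M (𝟙 M) := by
  refine ⟨inferInstance, hc, ht, Set.eq_univ_of_forall fun x => ?_⟩
  obtain ⟨η, hη, hsp⟩ := NormAmpleX.exists_generic_specializes x
  exact hsp.mem_closed (QCoh.isClosed_support_of_isFT hc.1 hc.2) (mem_support_of_rkOne hrk hη)

theorem degOn_univ (h1 : topologicalKrullDim X ≤ 1) {E : X.Modules} {r : ℕ}
    (hE : FlatMod.IsFinLocFreeOfRank r E) :
    degOn k E r (Set.univ : Set X) isClosed_univ = Curv2.deg k X E r := by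
  haveI := CurveCohLib.isNoetherian_of_proper (k := k) (X := X)
  rw [degOn_eq k hE, ← psi_quot_structure (CurvePsi.eulerPsi k hE) h1 isClosed_univ
    (fun x _ => let ⟨η, hη, hsp⟩ := NormAmpleX.exists_generic_specializes x; ⟨η, hη, trivial, hsp⟩)
    (isQuotOn_id QCoh.isCoh_structureModule' isTorsionFree_structure isRkOne_structure)]
  show Curv2.euler k X _ - _ = _
  rw [Euler.euler_congr k (KFlatLib.tensorUnitIso E)]
  rfl

theorem euler_quot_empty {M G : X.Modules} {π : M ⟶ G} (h : TFOne.IsQuotOn X M ∅ G π) :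
    Curv2.euler k X G = 0 := by
  haveI := CurveCohLib.isNoetherian_of_proper (k := k) (X := X)
  refine euler_eq_zero_of_isZero' k ((IsZero.iff_id_eq_zero _).2 (hom_eq_zero h.2.1.1 h.2.2.1 _ fun η _ hs => ?_))
  rw [h.2.2.2] at hs
  exact hs.elim

theorem euler_quot_univ {M G : X.Modules} (hc : Coh.IsCoh M) (ht : TorSh.IsTorsionFree M)
    (hrk : TFOne.IsRkOne X M) {π : M ⟶ G} {U : Set X} (hall : ∀ η ∈ genericPoints (X : Type u), η ∈ U)
    (h : TFOne.IsQuotOn X M U G π) : Curv2.euler k X G = Curv2.euler k X M := by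
  haveI := CurveCohLib.isNoetherian_of_proper (k := k) (X := X)
  haveI := h.1
  haveI := mono_quot_of_all (π := π) hc ht hrk hall h.2.2.2
  haveI := isIso_of_mono_of_epi π
  exact (Euler.euler_congr k (asIso π)).symm

theorem rBeta_univ (h1 : topologicalKrullDim X ≤ 1) {M G : X.Modules} (hc : Coh.IsCoh M)
    (ht : TorSh.IsTorsionFree M) (hrk : TFOne.IsRkOne X M) {E : X.Modules} {r : ℕ}
    (hE : FlatMod.IsFinLocFreeOfRank r E) {d : ℤ} (hχ : Curv2.euler k X M = d)
    (hEd : Curv2.deg k X E r = -(r : ℤ) * d) {π : M ⟶ G} {U : Set X} (hU : IsClosed U) (hUu : U = Set.univ)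
    (h : TFOne.IsQuotOn X M U G π) :
    TFOne.rBeta X k (X ↘ Spec (CommRingCat.of k)) U hU E r G = 0 := by
  subst hUu
  rw [rBeta_eq, euler_quot_univ k hc ht hrk (fun _ _ => trivial) h, degOn_univ k h1 hE, hχ, hEd]
  ring

theorem rBeta_empty {M G : X.Modules} {E : X.Modules} {r : ℕ}
    (hE : FlatMod.IsFinLocFreeOfRank r E) {π : M ⟶ G} {U : Set X} (hU : IsClosed U) (hUe : U = ∅)
    (h : TFOne.IsQuotOn X M U G π) :
    TFOne.rBeta X k (X ↘ Spec (CommRingCat.of k)) U hU E r G = 0 := by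
  subst hUe
  rw [rBeta_eq, euler_quot_empty k h, degOn_empty k hE, mul_zero, add_zero]

section Modif

variable {F GY F' : X.Modules} {Y : Set X} {πY : F ⟶ GY}
  {α : GY ⟶ F'} {β : F' ⟶ kernel πY} {w : α ≫ β = 0}
  {Z W U : Set X} {GZ GW GU : X.Modules} {πZ : F' ⟶ GZ} {πW : F ⟶ GW} {πU : F ⟶ GU}

/-- The inequality `β(W) + β(Y ∪ Z) ≤ β'(Z) + β(Y)` and the numerical meaning of equality. -/
theorem rBeta_modif (h1 : topologicalKrullDim X ≤ 1) (hF : TFOne.IsTF1 X F)
    (hY : TFOne.IsQuotOn X F Y GY πY) (hF'c : Coh.IsCoh F') (hS : (ShortComplex.mk α β w).ShortExact)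
    {E : X.Modules} {r : ℕ} (hr : 0 < r) (hE : FlatMod.IsFinLocFreeOfRank r E)
    (hYc : IsClosed Y) (hZc : IsClosed Z) (hWc : IsClosed W) (hUc : IsClosed U)
    (hYs : VecSt.IsSubcurve X Y) (hZs : Z = ∅ ∨ VecSt.IsSubcurve X Z)
    (hWs : W = ∅ ∨ VecSt.IsSubcurve X W) (hUs : U = ∅ ∨ VecSt.IsSubcurve X U)
    (hZ : TFOne.IsQuotOn X F' Z GZ πZ) (hW : TFOne.IsQuotOn X F W GW πW) (hU : TFOne.IsQuotOn X F U GU πU)
    (hgU : ∀ η ∈ genericPoints (X : Type u), (η ∈ U ↔ η ∈ Y ∨ η ∈ Z))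
    (hgW : ∀ η ∈ genericPoints (X : Type u), (η ∈ W ↔ η ∈ Y ∧ η ∈ Z)) :
    (TFOne.rBeta X k (X ↘ Spec (CommRingCat.of k)) W hWc E r GW +
        TFOne.rBeta X k (X ↘ Spec (CommRingCat.of k)) U hUc E r GU ≤
      TFOne.rBeta X k (X ↘ Spec (CommRingCat.of k)) Z hZc E r GZ +
        TFOne.rBeta X k (X ↘ Spec (CommRingCat.of k)) Y hYc E r GY) ∧
    (TFOne.rBeta X k (X ↘ Spec (CommRingCat.of k)) W hWc E r GW +
        TFOne.rBeta X k (X ↘ Spec (CommRingCat.of k)) U hUc E r GU =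
      TFOne.rBeta X k (X ↘ Spec (CommRingCat.of k)) Z hZc E r GZ +
        TFOne.rBeta X k (X ↘ Spec (CommRingCat.of k)) Y hYc E r GY ↔
      Curv2.euler k X GW + Curv2.euler k X GU = Curv2.euler k X GZ + Curv2.euler k X GY) := by
  haveI := CurveCohLib.isNoetherian_of_proper (k := k) (X := X)
  have hd := degOn_mv k h1 hE hYc hZc hWc hUc (Or.inr hYs) hZs hWs hUs hgU hgW
  have hle := (euler_modif k h1 hF.1 hF.2.1 hF.2.2 hY hF'c hS hZ hW hU hgU hgW).1
  simp only [rBeta_eq]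
  generalize degOn k E r U hUc = dU at hd ⊢
  generalize degOn k E r W hWc = dW at hd ⊢
  generalize degOn k E r Y hYc = dY at hd ⊢
  generalize degOn k E r Z hZc = dZ at hd ⊢
  generalize Curv2.euler k X GW = eW at hle ⊢
  generalize Curv2.euler k X GU = eU at hle ⊢
  generalize Curv2.euler k X GY = eY at hle ⊢
  generalize Curv2.euler k X GZ = eZ at hle ⊢
  have hr' : (0 : ℤ) < r := by exact_mod_cast hr
  refine ⟨by nlinarith, ⟨fun h => ?_, fun h => ?_⟩⟩
  · have h2 : (r : ℤ) * (eW + eU) = (r : ℤ) * (eZ + eY) := by linarith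
    exact mul_left_cancel₀ hr'.ne' h2
  · have h2 := congrArg (fun t => (r : ℤ) * t) h
    simp only [mul_add] at h2
    linarith

/-- On `Y` itself equality means that the modification splits. -/
theorem isIso_lift_iff (h1 : topologicalKrullDim X ≤ 1) (hF : TFOne.IsTF1 X F)
    (hY : TFOne.IsQuotOn X F Y GY πY) (hF'c : Coh.IsCoh F') (hS : (ShortComplex.mk α β w).ShortExact)
    (hYc : IsClosed Y) {Y' : Set X} (hY'c : IsClosed Y')
    (hgY' : ∀ η ∈ genericPoints (X : Type u), (η ∈ Y' ↔ η ∉ Y))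
    {G1 G2 : X.Modules} {π1 : F' ⟶ G1} {π2 : F' ⟶ G2}
    (hG1 : TFOne.IsQuotOn X F' Y G1 π1) (hG2 : TFOne.IsQuotOn X F' Y' G2 π2) :
    IsIso (biprod.lift π1 π2) ↔ Curv2.euler k X G1 = Curv2.euler k X GY := by
  haveI := CurveCohLib.isNoetherian_of_proper (k := k) (X := X)
  have hrk' := isRkOne_of_ext hF.2.2 hY hS
  have htf' := isTorsionFree_of_ext hF.2.1 hY.2.2.1 hS
  obtain ⟨G0, π0, hG0⟩ := exists_quotOn hF.1 hF.2.1 hF.2.2 (T := (∅ : Set X)) isClosed_empty fun x hx => hx.elim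
  haveI := hY.1
  have hext := euler_ext k hF.1 hY.2.1 hF'c hS
  have h2 := (euler_modif k h1 hF.1 hF.2.1 hF.2.2 hY hF'c hS hG2 hG0 (isQuotOn_id hF.1 hF.2.1 hF.2.2)
    (fun η hη => ⟨fun _ => (em (η ∈ Y)).imp_right (hgY' η hη).2, fun _ => trivial⟩)
    (fun η hη => ⟨fun h => h.elim, fun h => ((hgY' η hη).1 h.2 h.1).elim⟩)).2 (Or.inl fun η _ h => h)
  rw [euler_quot_empty k hG0, zero_add] at h2
  haveI : Mono (biprod.lift π1 π2) := Preadditive.mono_of_cancel_zero _ fun {T} g hg => by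
    refine hom_eq_zero hF'c.1 htf' g fun η hη _ a => ?_
    haveI := hG1.1
    haveI := hG2.1
    by_cases hy : η ∈ Y
    · refine (bijective_at hrk' π1 hη (hG1.2.2.2.symm ▸ hy)).1 ?_
      rw [← sm_comp, show g ≫ π1 = 0 by simpa using congrArg (fun z => z ≫ biprod.fst) hg, sm_zero, map_zero]
    · refine (bijective_at hrk' π2 hη (hG2.2.2.2.symm ▸ (hgY' η hη).2 hy)).1 ?_
      rw [← sm_comp, show g ≫ π2 = 0 by simpa using congrArg (fun z => z ≫ biprod.snd) hg, sm_zero, map_zero]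
  have hB := euler_biprod k hG1.2.1 hG2.2.1
  constructor
  · intro hiso
    have := Euler.euler_congr k (asIso (biprod.lift π1 π2))
    linarith
  · intro he
    have hBc := KZ.isCoh_biprod hG1.2.1 hG2.2.1
    have hQ : Coh.IsCoh (cokernel (biprod.lift π1 π2)) := QCoh.isCoh_cokernel hF'c.1 hBc _
    have e1 := Euler.euler_add k (CurveSlope.shortExact_cokernel_of_mono (biprod.lift π1 π2)) hF'c hBc hQ
    dsimp only at e1
    have hcl : ∀ x ∈ CohB1.support (cokernel (biprod.lift π1 π2)), IsClosed ({x} : Set X) := fun x hx => by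
      refine isClosed_singleton_of_notMem h1 fun hη => hx (subsingleton_of_forall_eq 0 fun b => ?_)
      obtain ⟨e, rfl⟩ := surjective_sm (cokernel.π (biprod.lift π1 π2)) x b
      suffices ∃ u, sm (biprod.lift π1 π2) x u = e by
        obtain ⟨u, rfl⟩ := this
        show sm (cokernel.π (biprod.lift π1 π2)) x (sm (biprod.lift π1 π2) x u) = 0
        rw [← sm_comp, cokernel.condition, sm_zero]
      have hdec : e = sm biprod.inl x (sm biprod.fst x e) + sm biprod.inr x (sm biprod.snd x e) := by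
        rw [← sm_comp, ← sm_comp, ← sm_add, biprod.total, sm_id]
      have hext' : ∀ u, sm π1 x u = sm biprod.fst x e → sm π2 x u = sm biprod.snd x e →
          sm (biprod.lift π1 π2) x u = e := by
        intro u h₁ h₂
        rw [hdec, ← h₁, ← h₂, ← sm_comp, ← sm_comp π2, ← sm_add]
        congr 1
        rw [biprod.lift_eq]
      haveI := hG1.1
      haveI := hG2.1
      by_cases hy : x ∈ Y
      · obtain ⟨u, hu⟩ := (bijective_at hrk' π1 hη (hG1.2.2.2.symm ▸ hy)).2 (sm biprod.fst x e)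
        have hn : x ∉ CohB1.support G2 := hG2.2.2.2.symm ▸ fun h => (hgY' x hη).1 h hy
        exact ⟨u, hext' u hu ((eq_zero_of_notMem hn _).trans (eq_zero_of_notMem hn _).symm)⟩
      · obtain ⟨u, hu⟩ := (bijective_at hrk' π2 hη (hG2.2.2.2.symm ▸ (hgY' x hη).2 hy)).2 (sm biprod.snd x e)
        have hn : x ∉ CohB1.support G1 := hG1.2.2.2.symm ▸ hy
        exact ⟨u, hext' u ((eq_zero_of_notMem hn _).trans (eq_zero_of_notMem hn _).symm) hu⟩
    have hz := (Euler.euler_nonneg_of_good k hQ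
      (Euler.good_of_support hQ fun x hx => (hcl x hx).closure_eq)).2 (by linarith)
    haveI : Epi (biprod.lift π1 π2) := Abelian.epi_of_cokernel_π_eq_zero _ (hz.eq_of_tgt _ _)
    exact isIso_of_mono_of_epi _

end Modif

end Groth.Agent.TFOneX
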