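import Groth.Agent.TFCurvLib.AssTF
import Groth.Agent.NormAmpleX.Generic
import Groth.Agent.KFlatLib.Scheme.Exact
import Groth.Agent.Lib.CurvePsi
import Groth.Agent.KZ.OpenExt
import Groth.Agent.H23.TopDim
import Groth.Prelude.Def_TFOne

/-!
Torsion-free quotients on subcurves: they are pinned by the stalks at generic points.
-/

set_option autoImplicit false
set_option linter.style.haveILetI false
set_option linter.unusedSectionVars false
set_option backward.isDefEq.respectTransparency false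
set_option backward.isDefEq.respectTransparency.types false

universe u

open CategoryTheory CategoryTheory.Limits AlgebraicGeometry TopologicalSpace Opposite

namespace Groth.Agent.TFOneX

variable {X : Scheme.{u}}

/-- The stalk of a map. -/
noncomputable abbrev sm {M N : X.Modules} (f : M ⟶ N) (x : X) :=
  ((DerSch.stalkFunctor X x).map f).hom

theorem sm_comp {M N P : X.Modules} (f : M ⟶ N) (g : N ⟶ P) (x : X) (a) :
    sm (f ≫ g) x a = sm g x (sm f x a) := by
  simp only [sm, Functor.map_comp]; rfl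

theorem sm_id {M : X.Modules} (x : X) (a) : sm (𝟙 M) x a = a := by
  simp only [sm, CategoryTheory.Functor.map_id]; rfl

theorem sm_zero {M N : X.Modules} (x : X) (a) : sm (0 : M ⟶ N) x a = 0 := by
  simp only [sm, Functor.map_zero]; rfl

theorem sm_add {M N : X.Modules} (f g : M ⟶ N) (x : X) (a) : sm (f + g) x a = sm f x a + sm g x a := by
  simp only [sm, Functor.map_add]; rfl

theorem sm_sub {M N : X.Modules} (f g : M ⟶ N) (x : X) (a) : sm (f - g) x a = sm f x a - sm g x a := by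
  simp only [sm, Functor.map_sub]; rfl

theorem sm_neg {M N : X.Modules} (f : M ⟶ N) (x : X) (a) : sm (-f) x a = -sm f x a := by
  simp only [sm, Functor.map_neg]; rfl

theorem surjective_sm {M N : X.Modules} (f : M ⟶ N) [Epi f] (x : X) : Function.Surjective (sm f x) :=
  (ModuleCat.epi_iff_surjective _).1 inferInstance

theorem injective_sm {M N : X.Modules} (f : M ⟶ N) [Mono f] (x : X) : Function.Injective (sm f x) :=
  (ModuleCat.mono_iff_injective _).1 inferInstance

theorem notMem_support_iff {M : X.Modules} {x : X} :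
    x ∉ CohB1.support M ↔ Subsingleton (M.presheaf.stalk x) := not_not

theorem eq_zero_of_notMem {M : X.Modules} {x : X} (h : x ∉ CohB1.support M)
    (a : (DerSch.stalkFunctor X x).obj M) : a = 0 :=
  @Subsingleton.elim _ (notMem_support_iff.1 h) a 0

theorem support_subset_of_mono {M N : X.Modules} (f : M ⟶ N) [Mono f] :
    CohB1.support M ⊆ CohB1.support N := fun x hx hN =>
  hx (@Function.Injective.subsingleton _ _ _ (injective_sm f x) hN)

theorem support_subset_of_epi {M N : X.Modules} (f : M ⟶ N) [Epi f] :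
    CohB1.support N ⊆ CohB1.support M := fun x hx hM =>
  hx (@Function.Surjective.subsingleton _ _ _ hM (surjective_sm f x))

theorem subsingleton_kernel {M N : X.Modules} (f : M ⟶ N) (x : X) (h : Function.Injective (sm f x)) :
    x ∉ CohB1.support (kernel f) := notMem_support_iff.2 <| subsingleton_of_forall_eq 0 fun a => by
  have h1 : sm (kernel.ι f) x a = 0 := h (by
    rw [← sm_comp, kernel.condition, sm_zero, map_zero])
  exact injective_sm (kernel.ι f) x (h1.trans (map_zero _).symm)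

section Generic

variable [IsLocallyNoetherian X] [AlgebraicGeometry.IsReduced X]

theorem mem_genericPoints_of_isField {y : X} (hy : IsField (X.presheaf.stalk y)) :
    y ∈ genericPoints (X : Type u) := by
  obtain ⟨η, hη, hηy⟩ := NormAmpleX.exists_generic_specializes y
  exact TFCurvLib.eq_of_specializes_of_isField hy hηy ▸ hη

/-- Maps into a torsion-free module are determined at the generic points of its support. -/
theorem hom_eq_zero {F G : X.Modules} (hG : Coh.IsQCoh G) (htG : TorSh.IsTorsionFree G) (φ : F ⟶ G)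
    (h : ∀ η ∈ genericPoints (X : Type u), η ∈ CohB1.support G → ∀ a, sm φ η a = 0) : φ = 0 := by
  refine Scheme.Modules.hom_ext _ _ fun U => ?_
  ext s
  refine TFCurvLib.eq_zero_of_germ_isField hG htG _ fun y hy hf => ?_
  have h1 : G.presheaf.germ U y hy (φ.app U s) = sm φ y (F.presheaf.germ U y hy s) :=
    (DerSch.stalkFunctor_map_germ y φ U hy s).symm
  rw [h1]
  by_cases hys : y ∈ CohB1.support G
  · exact h y (mem_genericPoints_of_isField hf) hys _
  · exact eq_zero_of_notMem hys _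

theorem hom_ext {F G : X.Modules} (hG : Coh.IsQCoh G) (htG : TorSh.IsTorsionFree G) {φ ψ : F ⟶ G}
    (h : ∀ η ∈ genericPoints (X : Type u), η ∈ CohB1.support G → ∀ a, sm φ η a = sm ψ η a) : φ = ψ :=
  sub_eq_zero.1 <| hom_eq_zero hG htG _ fun η hη hs a => by rw [sm_sub, h η hη hs a, sub_self]

/-- A quotient of a rank-one module is an isomorphism on the stalk at each generic point of its support. -/
theorem bijective_at {F G : X.Modules} (hF : TFOne.IsRkOne X F) (π : F ⟶ G) [Epi π] {η : X}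
    (hη : η ∈ genericPoints (X : Type u)) (hs : η ∈ CohB1.support G) : Function.Bijective (sm π η) := by
  letI := (NormAmpleX.isField_stalk_of_generic hη).toField
  obtain ⟨e⟩ := hF η hη
  refine ⟨?_, surjective_sm π η⟩
  rw [← LinearMap.ker_eq_bot, eq_bot_iff]
  intro a ha
  by_contra ha0
  refine hs (subsingleton_of_forall_eq 0 fun b => ?_)
  obtain ⟨c, rfl⟩ := surjective_sm π η b
  have ha0' : e a ≠ 0 := fun h => ha0 (e.map_eq_zero_iff.1 h)
  have hc : c = (e c * (e a)⁻¹) • a := e.injective (by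
    rw [LinearEquiv.map_smul, smul_eq_mul, mul_assoc, inv_mul_cancel₀ ha0', mul_one])
  rw [hc, LinearMap.map_smul, (LinearMap.mem_ker.1 ha : sm π η a = 0), smul_zero]

/-- The torsion-free quotient on a bigger set maps to the one on a smaller set. -/
theorem exists_desc {F G₁ G₂ : X.Modules} (hF : TFOne.IsRkOne X F) {Z₁ Z₂ : Set X}
    {π₁ : F ⟶ G₁} {π₂ : F ⟶ G₂} (h₁ : TFOne.IsQuotOn X F Z₁ G₁ π₁) (h₂ : TFOne.IsQuotOn X F Z₂ G₂ π₂)
    (hsub : ∀ η ∈ genericPoints (X : Type u), η ∈ Z₂ → η ∈ Z₁) :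
    ∃ g : G₁ ⟶ G₂, π₁ ≫ g = π₂ ∧ Epi g := by
  obtain ⟨hp1, -, -, hs1⟩ := h₁
  obtain ⟨hp2, hc2, ht2, hs2⟩ := h₂
  haveI := hp1
  haveI := hp2
  have hk : kernel.ι π₁ ≫ π₂ = 0 := hom_eq_zero hc2.1 ht2 _ fun η hη hs a => by
    have hbi := bijective_at hF π₁ hη (hs1 ▸ hsub η hη (hs2 ▸ hs))
    have : sm (kernel.ι π₁) η a = 0 := hbi.1 (by
      rw [← sm_comp, kernel.condition, sm_zero, map_zero])
    rw [sm_comp, this, map_zero]
  haveI := hp1
  refine ⟨Abelian.epiDesc π₁ π₂ hk, Abelian.comp_epiDesc _ _ _, ?_⟩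
  haveI : Epi (π₁ ≫ Abelian.epiDesc π₁ π₂ hk) := by rw [Abelian.comp_epiDesc]; exact hp2
  exact epi_of_epi π₁ _

theorem bijective_desc {F G₁ G₂ : X.Modules} (hF : TFOne.IsRkOne X F) {π₁ : F ⟶ G₁} {π₂ : F ⟶ G₂}
    [Epi π₁] [Epi π₂] {g : G₁ ⟶ G₂} (hg : π₁ ≫ g = π₂) {η : X} (hη : η ∈ genericPoints (X : Type u))
    (h₁ : η ∈ CohB1.support G₁) (h₂ : η ∈ CohB1.support G₂) : Function.Bijective (sm g η) := by
  have hc : sm g η ∘ sm π₁ η = sm π₂ η := by
    funext a
    rw [Function.comp_apply, ← sm_comp, hg]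
  have h := bijective_at hF π₂ hη h₂
  rw [← hc] at h
  exact (Function.Bijective.of_comp_iff _ (bijective_at hF π₁ hη h₁)).1 h

end Generic

section Subcurve

theorem mem_sUnion_components_iff {Y Z : Set X} (hY : IsClosed Y) (hZ : IsClosed Z) {η : X}
    (hη : η ∈ genericPoints (X : Type u)) :
    η ∈ ⋃₀ {C | C ∈ irreducibleComponents (X : Type u) ∧ C ⊆ Y ∩ Z} ↔ η ∈ Y ∧ η ∈ Z := by
  constructor
  · rintro ⟨C, ⟨-, hC⟩, hηC⟩
    exact hC hηC
  · exact fun h => ⟨_, ⟨hη, closure_minimal (Set.singleton_subset_iff.2 h) (hY.inter hZ)⟩,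
      subset_closure rfl⟩

theorem isClosed_singleton_of_notMem (h1 : topologicalKrullDim X ≤ 1) {x : X}
    (hx : x ∉ genericPoints (X : Type u)) : IsClosed ({x} : Set X) := by
  obtain ⟨η, hη, hηx⟩ := NormAmpleX.exists_generic_specializes x
  exact CurvePsi.isClosed_of_dim_le_one h1 hηx fun h => hx (h ▸ hη)

theorem dim_le_one (hpure : ∀ C ∈ irreducibleComponents (X : Type u), topologicalKrullDim C = 1) :
    topologicalKrullDim X ≤ 1 := by
  rw [H23.TopDim.dim_eq_iSup_irreducibleComponents]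
  exact iSup₂_le fun C hC => (hpure C hC).le

theorem mem_support_of_subcurve {G : X.Modules} {Z : Set X} (hs : CohB1.support G = Z) {η : X} :
    η ∈ CohB1.support G ↔ η ∈ Z := by rw [hs]

end Subcurve

section MV

variable [IsLocallyNoetherian X] [AlgebraicGeometry.IsReduced X]
variable {M : X.Modules} {Y Z W U : Set X} {GY GZ GW GU : X.Modules}
  {πY : M ⟶ GY} {πZ : M ⟶ GZ} {πW : M ⟶ GW} {πU : M ⟶ GU}

/-- The Mayer–Vietoris sequence of torsion-free quotients, exact up to finite length. -/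
theorem exists_mv (h1 : topologicalKrullDim X ≤ 1) (hrk : TFOne.IsRkOne X M)
    (hY : TFOne.IsQuotOn X M Y GY πY) (hZ : TFOne.IsQuotOn X M Z GZ πZ)
    (hW : TFOne.IsQuotOn X M W GW πW) (hU : TFOne.IsQuotOn X M U GU πU)
    (hgU : ∀ η ∈ genericPoints (X : Type u), (η ∈ U ↔ η ∈ Y ∨ η ∈ Z))
    (hgW : ∀ η ∈ genericPoints (X : Type u), (η ∈ W ↔ η ∈ Y ∧ η ∈ Z)) :
    ∃ (Q : X.Modules) (f : GU ⟶ GY ⊞ GZ) (c : GY ⊞ GZ ⟶ Q) (w : f ≫ c = 0) (q : Q ⟶ GW),
      (ShortComplex.mk f c w).ShortExact ∧ Coh.IsCoh Q ∧ Epi q ∧ Coh.IsCoh (kernel q) ∧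
        ∀ x ∈ CohB1.support (kernel q), IsClosed ({x} : Set X) := by
  obtain ⟨gY, hgY, -⟩ := exists_desc hrk hU hY fun η hη h => (hgU η hη).2 (Or.inl h)
  obtain ⟨gZ, hgZ, -⟩ := exists_desc hrk hU hZ fun η hη h => (hgU η hη).2 (Or.inr h)
  obtain ⟨hWY, hgWY, hepi⟩ := exists_desc hrk hY hW fun η hη h => ((hgW η hη).1 h).1
  obtain ⟨hWZ, hgWZ, -⟩ := exists_desc hrk hZ hW fun η hη h => ((hgW η hη).1 h).2
  obtain ⟨hpY, hcY, -, hsY⟩ := hY
  obtain ⟨hpZ, hcZ, -, hsZ⟩ := hZ
  obtain ⟨hpW, hcW, -, hsW⟩ := hW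
  obtain ⟨hpU, hcU, htU, hsU⟩ := hU
  haveI := hpY; haveI := hpZ; haveI := hpW; haveI := hpU
  let f : GU ⟶ GY ⊞ GZ := biprod.lift gY gZ
  haveI : Mono f := Preadditive.mono_of_cancel_zero _ fun {T} g hg => by
    have hgy : g ≫ gY = 0 := by
      have := congrArg (fun z => z ≫ biprod.fst) hg
      simpa [f] using this
    have hgz : g ≫ gZ = 0 := by
      have := congrArg (fun z => z ≫ biprod.snd) hg
      simpa [f] using this
    refine hom_eq_zero hcU.1 htU g fun η hη hs a => ?_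
    rcases (hgU η hη).1 (hsU ▸ hs) with h | h
    · refine (bijective_desc hrk hgY hη hs (hsY.symm ▸ h)).1 ?_
      rw [← sm_comp, hgy, sm_zero, map_zero]
    · refine (bijective_desc hrk hgZ hη hs (hsZ.symm ▸ h)).1 ?_
      rw [← sm_comp, hgz, sm_zero, map_zero]
  let d : GY ⊞ GZ ⟶ GW := biprod.desc hWY (-hWZ)
  have hfd : f ≫ d = 0 := by
    rw [← cancel_epi πU, comp_zero]
    simp only [f, d, biprod.lift_desc, Preadditive.comp_neg, Preadditive.comp_add]
    rw [reassoc_of% hgY, reassoc_of% hgZ, hgWY, hgWZ, add_neg_cancel]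
  let q : cokernel f ⟶ GW := cokernel.desc f d hfd
  haveI : Epi d := by
    haveI : Epi (biprod.inl ≫ d) := by rw [biprod.inl_desc]; exact hepi
    exact epi_of_epi biprod.inl d
  haveI : Epi (cokernel.π f ≫ q) := by rw [cokernel.π_desc]; infer_instance
  haveI : Epi q := epi_of_epi (cokernel.π f) q
  have hcB : Coh.IsCoh (GY ⊞ GZ) := KZ.isCoh_biprod hcY hcZ
  have hcQ : Coh.IsCoh (cokernel f) := QCoh.isCoh_cokernel hcU.1 hcB f
  refine ⟨cokernel f, f, cokernel.π f, cokernel.condition f, q,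
    CurveSlope.shortExact_cokernel_of_mono f, hcQ, inferInstance,
    QCoh.isCoh_kernel hcQ hcW q, fun x hx => ?_⟩
  refine isClosed_singleton_of_notMem h1 fun hη => subsingleton_kernel q x ?_ hx
  rw [← LinearMap.ker_eq_bot, eq_bot_iff]
  intro b hb
  obtain ⟨e, rfl⟩ := surjective_sm (cokernel.π f) x b
  have he : sm d x e = 0 := by
    rw [← cokernel.π_desc f d hfd, sm_comp]
    exact LinearMap.mem_ker.1 hb
  -- decompose `e` along the two factors
  have hdec : e = sm biprod.inl x (sm biprod.fst x e) + sm biprod.inr x (sm biprod.snd x e) := by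
    rw [← sm_comp, ← sm_comp, ← sm_add, biprod.total, sm_id]
  have hde : sm hWY x (sm biprod.fst x e) = sm hWZ x (sm biprod.snd x e) := by
    rw [hdec, map_add, ← sm_comp biprod.inl d, ← sm_comp biprod.inr d] at he
    simp only [d, biprod.inl_desc, biprod.inr_desc] at he
    rw [sm_neg, add_neg_eq_zero] at he
    exact he
  suffices ∃ u, sm f x u = e by
    obtain ⟨u, rfl⟩ := this
    show sm (cokernel.π f) x (sm f x u) = 0
    rw [← sm_comp, cokernel.condition, sm_zero]
  have hfy : ∀ u, sm biprod.fst x (sm f x u) = sm gY x u := fun u => by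
    rw [← sm_comp]; simp only [f, biprod.lift_fst]
  have hfz : ∀ u, sm biprod.snd x (sm f x u) = sm gZ x u := fun u => by
    rw [← sm_comp]; simp only [f, biprod.lift_snd]
  have hext : ∀ u, sm gY x u = sm biprod.fst x e → sm gZ x u = sm biprod.snd x e → sm f x u = e := by
    intro u h₁ h₂
    rw [hdec, ← h₁, ← h₂, ← hfy, ← hfz, ← sm_comp, ← sm_comp biprod.snd biprod.inr, ← sm_add,
      biprod.total, sm_id]
  by_cases hy : x ∈ Y
  · have hxU : x ∈ CohB1.support GU := hsU.symm ▸ (hgU x hη).2 (Or.inl hy)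
    obtain ⟨u, hu⟩ := (bijective_desc hrk hgY hη hxU (hsY.symm ▸ hy)).2 (sm biprod.fst x e)
    refine ⟨u, hext u hu ?_⟩
    by_cases hz : x ∈ Z
    · have hxW : x ∈ CohB1.support GW := hsW.symm ▸ (hgW x hη).2 ⟨hy, hz⟩
      refine (bijective_desc hrk hgWZ hη (hsZ.symm ▸ hz) hxW).1 ?_
      rw [← hde, ← hu, ← sm_comp, ← sm_comp]
      congr 2
      rw [← cancel_epi πU, reassoc_of% hgY, reassoc_of% hgZ, hgWY, hgWZ]
    · exact (eq_zero_of_notMem (hsZ.symm ▸ hz) _).trans (eq_zero_of_notMem (hsZ.symm ▸ hz) _).symm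
  · by_cases hz : x ∈ Z
    · have hxU : x ∈ CohB1.support GU := hsU.symm ▸ (hgU x hη).2 (Or.inr hz)
      obtain ⟨u, hu⟩ := (bijective_desc hrk hgZ hη hxU (hsZ.symm ▸ hz)).2 (sm biprod.snd x e)
      exact ⟨u, hext u ((eq_zero_of_notMem (hsY.symm ▸ hy) _).trans
        (eq_zero_of_notMem (hsY.symm ▸ hy) _).symm) hu⟩
    · exact ⟨0, hext 0 ((eq_zero_of_notMem (hsY.symm ▸ hy) _).trans
        (eq_zero_of_notMem (hsY.symm ▸ hy) _).symm) ((eq_zero_of_notMem (hsZ.symm ▸ hz) _).trans
        (eq_zero_of_notMem (hsZ.symm ▸ hz) _).symm)⟩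

end MV

end Groth.Agent.TFOneX
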