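import Groth.Agent.TFOneX.Basic

/-!
Euler characteristics and torsion-free quotients.
-/

set_option autoImplicit false
set_option linter.style.haveILetI false
set_option linter.unusedSectionVars false
set_option backward.isDefEq.respectTransparency false
set_option backward.isDefEq.respectTransparency.types false

universe u

open CategoryTheory CategoryTheory.Limits AlgebraicGeometry TopologicalSpace Opposite

namespace Groth.Agent.TFOneX

variable (k : Type u) [Field k] {X : Scheme.{u}} [X.Over (Spec (CommRingCat.of k))]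
  [IsProper (X ↘ Spec (CommRingCat.of k))]

theorem euler_nonneg_of_closedPoints {F : X.Modules} (hF : Coh.IsCoh F)
    (h : ∀ x ∈ CohB1.support F, IsClosed ({x} : Set X)) : 0 ≤ Curv2.euler k X F := by
  haveI := CurveCohLib.isNoetherian_of_proper (k := k) (X := X)
  exact (Euler.euler_nonneg_of_good k hF
    (Euler.good_of_support hF fun x hx => (h x hx).closure_eq)).1

theorem euler_biprod {A B : X.Modules} (hA : Coh.IsCoh A) (hB : Coh.IsCoh B) :
    Curv2.euler k X (A ⊞ B) = Curv2.euler k X A + Curv2.euler k X B :=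
  Euler.euler_add k (S := ShortComplex.mk biprod.inl biprod.snd (biprod.inl_snd (X := A) (Y := B)))
    (ShortComplex.Splitting.ofHasBinaryBiproduct A B).shortExact hA (KZ.isCoh_biprod hA hB) hB

variable [AlgebraicGeometry.IsReduced X]
variable {M : X.Modules} {Y Z W U : Set X} {GY GZ GW GU : X.Modules}
  {πY : M ⟶ GY} {πZ : M ⟶ GZ} {πW : M ⟶ GW} {πU : M ⟶ GU}

theorem euler_mv_le (h1 : topologicalKrullDim X ≤ 1) (hrk : TFOne.IsRkOne X M)
    (hY : TFOne.IsQuotOn X M Y GY πY) (hZ : TFOne.IsQuotOn X M Z GZ πZ)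
    (hW : TFOne.IsQuotOn X M W GW πW) (hU : TFOne.IsQuotOn X M U GU πU)
    (hgU : ∀ η ∈ genericPoints (X : Type u), (η ∈ U ↔ η ∈ Y ∨ η ∈ Z))
    (hgW : ∀ η ∈ genericPoints (X : Type u), (η ∈ W ↔ η ∈ Y ∧ η ∈ Z)) :
    Curv2.euler k X GU + Curv2.euler k X GW ≤ Curv2.euler k X GY + Curv2.euler k X GZ := by
  haveI := CurveCohLib.isNoetherian_of_proper (k := k) (X := X)
  obtain ⟨Q, f, c, w, q, hS, hQ, hq, hK, hcl⟩ := exists_mv h1 hrk hY hZ hW hU hgU hgW
  haveI := hq
  have e1 := Euler.euler_add k (S := ShortComplex.mk f c w) hS hU.2.1 (KZ.isCoh_biprod hY.2.1 hZ.2.1) hQ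
  have e2 := Euler.euler_add k (CurveSlope.shortExact_kernel_of_epi q) hK hQ hW.2.1
  dsimp only at e1 e2
  have e3 := euler_nonneg_of_closedPoints k hK hcl
  rw [euler_biprod k hY.2.1 hZ.2.1] at e1
  generalize Curv2.euler k X GU = a at e1 ⊢
  generalize Curv2.euler k X GW = b at e2 ⊢
  generalize Curv2.euler k X GY = c' at e1 ⊢
  generalize Curv2.euler k X GZ = d' at e1 ⊢
  generalize Curv2.euler k X Q = e at e1 e2
  generalize Curv2.euler k X (kernel q) = g at e2 e3
  omega

end Groth.Agent.TFOneX
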