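import Groth.Agent.TFOneX.Basic
import Groth.Agent.VarGeom.Normal
import Groth.Agent.QCoh.Qcqs

/-!
Existence of the torsion-free quotient on a union of components.
-/

set_option autoImplicit false
set_option linter.style.haveILetI false
set_option linter.unusedSectionVars false
set_option backward.isDefEq.respectTransparency false
set_option backward.isDefEq.respectTransparency.types false

universe u

open CategoryTheory CategoryTheory.Limits AlgebraicGeometry TopologicalSpace Opposite

namespace Groth.Agent.TFOneX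

variable {X : Scheme.{u}}

theorem map_ne_zero_of_isRegular [AlgebraicGeometry.IsReduced X] {x η : X} (h : η ⤳ x)
    (hη : η ∈ genericPoints (X : Type u)) {r : X.presheaf.stalk x} (hr : IsRegular r) :
    (X.presheaf.stalkSpecializes h).hom r ≠ 0 := by
  intro h0
  letI := (NormAmpleX.isField_stalk_of_generic hη).toField
  obtain ⟨S, hS⟩ := VarGeom.exists_isLocalization_stalkSpecializes h
  letI := (X.presheaf.stalkSpecializes h).hom.toAlgebra
  haveI := hS
  obtain ⟨s, hs⟩ := (IsLocalization.map_eq_zero_iff S (X.presheaf.stalk η) r).1 h0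
  have h1 : (s : X.presheaf.stalk x) = 0 := hr.right (by simpa using hs)
  have hu := IsLocalization.map_units (X.presheaf.stalk η) s
  rw [h1, map_zero] at hu
  exact not_isUnit_zero hu

variable [IsNoetherian X] [AlgebraicGeometry.IsReduced X]

/-- The points missing the components outside `T`. -/
def onlyOpen (T : Set X) : X.Opens :=
  ⟨(⋃₀ {C | C ∈ irreducibleComponents (X : Type u) ∧ ¬ C ⊆ T})ᶜ, by
    rw [isOpen_compl_iff, Set.sUnion_eq_biUnion]
    exact (TopologicalSpace.NoetherianSpace.finite_irreducibleComponents.subset fun C hC => hC.1).isClosed_biUnion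
      fun C hC => isClosed_of_mem_irreducibleComponents C hC.1⟩

theorem onlyOpen_subset (T : Set X) : (onlyOpen T : Set X) ⊆ T := fun y hy => by
  by_contra hyT
  exact hy ⟨irreducibleComponent y, ⟨irreducibleComponent_mem_irreducibleComponents y,
    fun h => hyT (h mem_irreducibleComponent)⟩, mem_irreducibleComponent⟩

theorem generic_mem_onlyOpen {T : Set X} (hT : IsClosed T) {η : X} (hη : η ∈ genericPoints (X : Type u))
    (h : η ∈ T) : η ∈ onlyOpen T := by
  rintro ⟨C, ⟨hC, hCT⟩, hηC⟩
  refine hCT ?_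
  rw [hη.eq_of_ge hC.1 (closure_minimal (Set.singleton_subset_iff.2 hηC)
    (isClosed_of_mem_irreducibleComponents C hC))]
  exact closure_minimal (Set.singleton_subset_iff.2 h) hT

theorem exists_nbhd_through (x : X) : ∃ O : X.Opens, x ∈ O ∧
    ∀ η ∈ genericPoints (X : Type u), η ∈ O → η ⤳ x := by
  refine ⟨⟨(⋃₀ {C | C ∈ irreducibleComponents (X : Type u) ∧ x ∉ C})ᶜ, ?_⟩, ?_, fun η hη hηO => ?_⟩
  · rw [isOpen_compl_iff, Set.sUnion_eq_biUnion]
    exact (TopologicalSpace.NoetherianSpace.finite_irreducibleComponents.subset fun C hC => hC.1).isClosed_biUnion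
      fun C hC => isClosed_of_mem_irreducibleComponents C hC.1
  · rintro ⟨C, ⟨-, hxC⟩, hxC'⟩
    exact hxC hxC'
  · by_contra h
    exact hηO ⟨closure {η}, ⟨hη, fun hx => h (specializes_iff_mem_closure.2 hx)⟩, subset_closure rfl⟩

theorem mem_support_of_rkOne_generic {M : X.Modules} (hrk : TFOne.IsRkOne X M) {η : X}
    (hη : η ∈ genericPoints (X : Type u)) : η ∈ CohB1.support M := fun hs => by
  haveI : Subsingleton (M.presheaf.stalk η) := hs
  obtain ⟨e⟩ := hrk η hη
  exact one_ne_zero (α := X.presheaf.stalk η) (e.symm.injective (Subsingleton.elim _ _))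

/-- At a generic point of `T` the restriction map to `onlyOpen T` loses nothing. -/
theorem eq_zero_of_unit {M : X.Modules} {T : Set X} (hT : IsClosed T) {η : X}
    (hη : η ∈ genericPoints (X : Type u)) (hηT : η ∈ T) {W : X.Opens} (hW : η ∈ W) (t : Γ(M, W))
    (hzero : sm ((Scheme.Modules.restrictAdjunction (onlyOpen T).ι).unit.app M) η
      (M.presheaf.germ W η hW t) = 0) : M.presheaf.germ W η hW t = 0 := by
  let V := onlyOpen T
  let u := (Scheme.Modules.restrictAdjunction V.ι).unit.app M
  obtain ⟨W', hW', j, j', hz⟩ := TopCat.Presheaf.germ_eq _ η hW hW _ _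
    (((DerSch.stalkFunctor_map_germ η u W hW t).symm.trans hzero).trans (map_zero _).symm)
  have hηV : η ∈ W' ⊓ V := ⟨hW', generic_mem_onlyOpen hT hη hηT⟩
  rw [← M.presheaf.germ_res_apply (homOfLE (inf_le_left.trans j.le : W' ⊓ V ≤ W)) η hηV t]
  rw [map_zero] at hz
  have h5 : u.app W' (M.presheaf.map j.op t) = 0 :=
    (ConcreteCategory.congr_hom (u.mapPresheaf.naturality j.op) t).trans hz
  rw [Scheme.Modules.restrictAdjunction_unit_app_app] at h5
  have hle : W' ⊓ V ≤ V.ι ''ᵁ (V.ι ⁻¹ᵁ W') := by
    rw [Scheme.Hom.image_preimage_eq_opensRange_inf, Scheme.Opens.opensRange_ι, inf_comm]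
  have h6 := congrArg (M.presheaf.map (homOfLE hle).op) h5
  rw [map_zero] at h6
  rw [show M.presheaf.map (homOfLE (inf_le_left.trans j.le : W' ⊓ V ≤ W)).op t = 0 from
    (by erw [QCoh.map_map, QCoh.map_map] at h6; exact h6), map_zero]

/-- Torsion-free quotients on unions of components exist. -/
theorem exists_quotOn {M : X.Modules} (hc : Coh.IsCoh M) (htf : TorSh.IsTorsionFree M)
    (hrk : TFOne.IsRkOne X M) {T : Set X} (hT : IsClosed T)
    (hcomp : ∀ x ∈ T, ∃ η ∈ genericPoints (X : Type u), η ∈ T ∧ η ⤳ x) :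
    ∃ (G : X.Modules) (π : M ⟶ G), TFOne.IsQuotOn X M T G π := by
  let V := onlyOpen T
  let u := (Scheme.Modules.restrictAdjunction V.ι).unit.app M
  have hqP : Coh.IsQCoh ((Scheme.Modules.pushforward V.ι).obj (M.restrict V.ι)) :=
    QCoh.isQCoh_pushforward V.ι (QCoh.isQCoh_restrict V.ι hc.1)
  let π : M ⟶ Abelian.coimage u := Abelian.coimage.π u
  let m : Abelian.coimage u ⟶ _ := Abelian.factorThruCoimage u
  have hmon : Mono m := inferInstance
  have hGc : Coh.IsCoh (Abelian.coimage u) :=
    QCoh.isCoh_cokernel (QCoh.isQCoh_kernel hc.1 hqP u) hc _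
  -- a section of the quotient is zero iff it vanishes on `V`
  have key : ∀ {W : X.Opens} (t : Γ(M, W)), (∀ η ∈ genericPoints (X : Type u), η ∈ T → ∀ h : η ∈ W,
      M.presheaf.germ W η h t = 0) → π.app W t = 0 := by
    intro W t ht
    have h1 : u.app W t = 0 := by
      rw [Scheme.Modules.restrictAdjunction_unit_app_app]
      show M.presheaf.map (homOfLE (V.ι.image_preimage_le W)).op t = 0
      refine TFCurvLib.eq_zero_of_germ_isField hc.1 htf
        (M.presheaf.map (homOfLE (V.ι.image_preimage_le W)).op t) fun y hy hf => ?_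
      rw [TopCat.Presheaf.germ_res_apply]
      obtain ⟨⟨y', hyV⟩, -, rfl⟩ := hy
      exact ht _ (mem_genericPoints_of_isField hf) (onlyOpen_subset T hyV) _
    have hinj : Function.Injective (m.app W) := by
      refine (injective_iff_map_eq_zero _).2 fun a ha => ?_
      refine TopCat.Presheaf.section_ext ⟨(Abelian.coimage u).presheaf, (Abelian.coimage u).isSheaf⟩ W _ _ fun z hz => ?_
      show (Abelian.coimage u).presheaf.germ W z hz a = (Abelian.coimage u).presheaf.germ W z hz 0
      refine injective_sm m z ?_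
      simp only [map_zero]
      refine (DerSch.stalkFunctor_map_germ z m W hz a).trans ?_
      rw [ha]
      exact map_zero _
    refine hinj ?_
    rw [map_zero]
    refine Eq.trans ?_ h1
    show (π ≫ m).app W t = _
    rw [Abelian.coimage.fac]
    rfl
  haveI : Epi π := inferInstance
  refine ⟨Abelian.coimage u, π, inferInstance, hGc, fun x => ?_, ?_⟩
  · refine ⟨fun r hr => ?_⟩
    rw [isSMulRegular_iff_right_eq_zero_of_smul]
    intro a ha
    obtain ⟨b, rfl⟩ := surjective_sm π x a
    obtain ⟨W, hxW, t, rfl⟩ := TopCat.Presheaf.exists_germ_eq M.presheaf b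
    obtain ⟨O, hxO, hO⟩ := exists_nbhd_through x
    have hx : x ∈ W ⊓ O := ⟨hxW, hxO⟩
    rw [← M.presheaf.germ_res_apply (homOfLE (inf_le_left : W ⊓ O ≤ W)) x hx t,
      DerSch.stalkFunctor_map_germ, key _ fun η hη hηT hηW => ?_, map_zero]
    rw [TopCat.Presheaf.germ_res_apply]
    have hsp : η ⤳ x := hO η hη hηW.2
    letI := (NormAmpleX.isField_stalk_of_generic hη).toField
    -- push the relation to the generic stalk
    have h1 : sm π η (M.presheaf.germ W η hηW.1 t) = 0 := by
      have h2 := congrArg ((Abelian.coimage u).presheaf.stalkSpecializes hsp).hom ha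
      rw [map_zero] at h2
      have h3 : ((Abelian.coimage u).presheaf.stalkSpecializes hsp).hom
          (r • sm π x (M.presheaf.germ W x hxW t)) =
          (X.presheaf.stalkSpecializes hsp).hom r • sm π η (M.presheaf.germ W η hηW.1 t) := by
        obtain ⟨U, hxU, r, rfl⟩ := TopCat.Presheaf.exists_germ_eq X.presheaf r
        have hxUW : x ∈ U ⊓ W := ⟨hxU, hxW⟩
        rw [← X.presheaf.germ_res_apply (homOfLE (inf_le_left : U ⊓ W ≤ U)) x hxUW r,
          DerSch.stalkFunctor_map_germ, DerSch.stalkFunctor_map_germ,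
          ← (Abelian.coimage u).presheaf.germ_res_apply (homOfLE (inf_le_right : U ⊓ W ≤ W)) x hxUW (π.app W t),
          ← QCoh.germ_smul', TopCat.Presheaf.germ_stalkSpecializes_apply, QCoh.germ_smul',
          TopCat.Presheaf.germ_stalkSpecializes_apply, TopCat.Presheaf.germ_res_apply]
        congr 1
        exact TopCat.Presheaf.germ_res_apply _ _ _ _ _
      have hne := map_ne_zero_of_isRegular hsp hη hr
      exact (isUnit_iff_ne_zero.2 hne).smul_eq_zero.1 (h3.symm.trans h2)
    have hu : sm u η (M.presheaf.germ W η hηW.1 t) = 0 := by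
      rw [← Abelian.coimage.fac u, sm_comp]
      exact (congrArg (sm m η) h1).trans (map_zero _)
    exact eq_zero_of_unit hT hη hηT hηW.1 t hu
  · refine Set.Subset.antisymm (fun x hx => ?_) fun x hx => ?_
    · by_contra hxT
      refine hx (subsingleton_of_forall_eq 0 fun a => ?_)
      obtain ⟨b, rfl⟩ := surjective_sm π x a
      obtain ⟨W, hxW, t, rfl⟩ := TopCat.Presheaf.exists_germ_eq M.presheaf b
      let O' : X.Opens := ⟨Tᶜ, hT.isOpen_compl⟩
      have hx' : x ∈ W ⊓ O' := ⟨hxW, hxT⟩
      rw [← M.presheaf.germ_res_apply (homOfLE (inf_le_left : W ⊓ O' ≤ W)) x hx' t,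
        DerSch.stalkFunctor_map_germ, key (W := W ⊓ O') _ fun η hη hηT hηW => absurd hηT hηW.2, map_zero]
    · obtain ⟨η, hη, hηT, hsp⟩ := hcomp x hx
      refine hsp.mem_closed (QCoh.isClosed_support_of_isFT hGc.1 hGc.2) fun hs => ?_
      haveI : Subsingleton ((Abelian.coimage u).presheaf.stalk η) := hs
      refine mem_support_of_rkOne_generic hrk hη (subsingleton_of_forall_eq 0 fun a => ?_)
      obtain ⟨W, hW, t, rfl⟩ := TopCat.Presheaf.exists_germ_eq M.presheaf a
      have hz : sm u η (M.presheaf.germ W η hW t) = 0 := by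
        rw [← Abelian.coimage.fac u, sm_comp]
        exact (congrArg (sm m η) (@Subsingleton.elim _ hs _ 0)).trans (map_zero _)
      exact eq_zero_of_unit hT hη hηT hW t hz

end Groth.Agent.TFOneX
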