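import Groth.Agent.TFOneX.Push
import Groth.Agent.TFOneX.QuotExists
import Groth.Agent.TFOneX.Euler
import Groth.Prelude.Def_ClSub2
import Groth.Agent.KFlatLib.Scheme.ProjModule
import Groth.Agent.PnCoh.PushNat

/-!
Degrees of a vector bundle on subcurves: the Mayer–Vietoris relation.
-/

set_option autoImplicit false
set_option linter.style.haveILetI false
set_option linter.unusedSectionVars false
set_option backward.isDefEq.respectTransparency false
set_option backward.isDefEq.respectTransparency.types false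

universe u

open CategoryTheory CategoryTheory.Limits AlgebraicGeometry TopologicalSpace Opposite

namespace Groth.Agent.TFOneX

variable {X : Scheme.{u}}

theorem exists_stalk_structure (x : X) :
    Nonempty ((Coh.structureModule X).presheaf.stalk x ≃ₗ[X.presheaf.stalk x] X.presheaf.stalk x) := by
  obtain ⟨b⟩ := CurveTensor.exists_basis_stalk (InvEnd.isFinLocFreeOfRank_one
    (CurveDeg.isInvertible_structureModule (X := X))) x
  exact ⟨b.equivFun ≪≫ₗ LinearEquiv.funUnique (Fin 1) _ _⟩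

theorem isRkOne_structure : TFOne.IsRkOne X (Coh.structureModule X) := fun x _ => exists_stalk_structure x

theorem isTorsionFree_structure : TorSh.IsTorsionFree (Coh.structureModule X) := fun x => by
  obtain ⟨e⟩ := exists_stalk_structure x
  exact Function.Injective.moduleIsTorsionFree e e.injective (fun r m => e.map_smul r m)

theorem exists_generic_of_subcurve [IsNoetherian X] {T : Set X}
    (h : T = ∅ ∨ VecSt.IsSubcurve X T) :
    ∀ x ∈ T, ∃ η ∈ genericPoints (X : Type u), η ∈ T ∧ η ⤳ x := by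
  rcases h with rfl | ⟨S, hS, -, rfl⟩
  · intro x hx; exact hx.elim
  rintro x ⟨C, hC, hxC⟩
  have hg := genericPoints.isGenericPoint_ofComponent ⟨C, hS hC⟩
  exact ⟨(genericPoints.ofComponent ⟨C, hS hC⟩).1, (genericPoints.ofComponent ⟨C, hS hC⟩).2,
    ⟨C, hC, hg.mem⟩, hg.specializes hxC⟩

variable [IsNoetherian X] [AlgebraicGeometry.IsReduced X]

theorem psi_mv (ψ : CurvePsi.Psi X) (h1 : topologicalKrullDim X ≤ 1) {M : X.Modules}
    (hrk : TFOne.IsRkOne X M) {Y Z W U : Set X} {GY GZ GW GU : X.Modules}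
    {πY : M ⟶ GY} {πZ : M ⟶ GZ} {πW : M ⟶ GW} {πU : M ⟶ GU}
    (hY : TFOne.IsQuotOn X M Y GY πY) (hZ : TFOne.IsQuotOn X M Z GZ πZ)
    (hW : TFOne.IsQuotOn X M W GW πW) (hU : TFOne.IsQuotOn X M U GU πU)
    (hgU : ∀ η ∈ genericPoints (X : Type u), (η ∈ U ↔ η ∈ Y ∨ η ∈ Z))
    (hgW : ∀ η ∈ genericPoints (X : Type u), (η ∈ W ↔ η ∈ Y ∧ η ∈ Z)) :
    ψ.toFun GU + ψ.toFun GW = ψ.toFun GY + ψ.toFun GZ := by
  obtain ⟨Q, f, c, w, q, hS, hQ, hq, hK, hcl⟩ := exists_mv h1 hrk hY hZ hW hU hgU hgW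
  haveI := hq
  have hB := KZ.isCoh_biprod hY.2.1 hZ.2.1
  have e1 := ψ.add f c w hS hU.2.1 hB hQ
  have e2 := ψ.add _ _ _ (CurveSlope.shortExact_kernel_of_epi q) hK hQ hW.2.1
  have e3 := ψ.zero hK hcl
  have e4 := ψ.add biprod.inl biprod.snd (biprod.inl_snd (X := GY) (Y := GZ))
    (ShortComplex.Splitting.ofHasBinaryBiproduct GY GZ).shortExact hY.2.1 hB hZ.2.1
  linarith

omit [AlgebraicGeometry.IsReduced X] in
theorem isCoh_pushStructure (T : Set X) (hT : IsClosed T) :
    Coh.IsCoh ((Coh.push (VecSt.subschι X T hT)).obj (Coh.structureModule (VecSt.subsch X T hT))) := by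
  haveI := isLocallyNoetherian_subsch T hT
  exact QCoh.isCoh_push _ QCoh.isCoh_structureModule'

omit [AlgebraicGeometry.IsNoetherian X] [AlgebraicGeometry.IsReduced X] in
theorem epi_unitToPush {Z : Scheme.{u}} (ι : Z ⟶ X) [IsClosedImmersion ι] : Epi (ClSub.unitToPush ι) := by
  refine Preadditive.epi_of_cancel_zero _ fun {N} g hg => QCoh.hom_eq_zero_of_affine g fun U hU s => ?_
  let s' : Γ(Z, ι ⁻¹ᵁ U) := s
  obtain ⟨r, hr⟩ := ι.app_surjective U hU s'
  rw [show s = (ClSub.unitToPush ι).app U r from hr.symm]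
  exact congr(($hg).app U r)

theorem psi_quot_structure (ψ : CurvePsi.Psi X) (h1 : topologicalKrullDim X ≤ 1) {T : Set X}
    (hT : IsClosed T) (hcomp : ∀ x ∈ T, ∃ η ∈ genericPoints (X : Type u), η ∈ T ∧ η ⤳ x)
    {G : X.Modules} {π : Coh.structureModule X ⟶ G}
    (hG : TFOne.IsQuotOn X (Coh.structureModule X) T G π) :
    ψ.toFun G = ψ.toFun ((Coh.push (VecSt.subschι X T hT)).obj (Coh.structureModule (VecSt.subsch X T hT))) := by
  obtain ⟨hp, hc, -, hs⟩ := hG
  haveI := hp
  let ι := VecSt.subschι X T hT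
  haveI := isReduced_subsch T hT
  haveI : Epi (ClSub.unitToPush ι) := epi_unitToPush ι
  have hk : kernel.ι π ≫ ClSub.unitToPush ι = 0 := by
    refine QCoh.hom_eq_zero_of_affine _ fun W _ t => ?_
    let r : Γ(X, W) := (kernel.ι π).app W t
    show ι.app W r = 0
    refine NormAmpleX.eq_zero_of_germ_generic _ fun y hy hyW => ?_
    obtain ⟨η', hη', hη'T, hsp⟩ := hcomp (ι y) ((range_subschι T hT).subset (Set.mem_range_self y))
    obtain ⟨y', hy', hyη⟩ := exists_generic_over hT hη' hη'T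
    have hyy : y' = y := NormAmpleX.eq_of_specializes_generic hy
      (ι.isClosedEmbedding.isInducing.specializes_iff.1 (hyη.symm ▸ hsp))
    subst hyy
    have hbi := bijective_at isRkOne_structure π hη' (hs.symm ▸ hη'T)
    have hηW : ι y' ∈ W := hyW
    subst hyη
    have h0 : (Coh.structureModule X).presheaf.germ W (ι y') hηW ((kernel.ι π).app W t) = 0 := by
      refine hbi.1 ?_
      rw [map_zero, ← DerSch.stalkFunctor_map_germ (ι y') (kernel.ι π) W hηW t, ← sm_comp, kernel.condition,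
        sm_zero]
    obtain ⟨V, hV, j, j', hz⟩ := TopCat.Presheaf.germ_eq _ (ι y') hηW hηW _ _ (h0.trans (map_zero _).symm)
    rw [map_zero] at hz
    have hz' : X.presheaf.map j.op r = 0 := hz
    have hg : X.presheaf.germ W (ι y') hηW r = 0 := by
      rw [← X.presheaf.germ_res_apply j (ι y') hV r, hz', map_zero]
    rw [← ι.germ_stalkMap_apply W y' hηW r, hg, map_zero]
  let g := Abelian.epiDesc π (ClSub.unitToPush ι) hk
  refine ψ.eq_of_map hc (isCoh_pushStructure T hT) g fun x hx => ?_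
  have hη : x ∈ genericPoints (X : Type u) := by_contra fun h => hx (isClosed_singleton_of_notMem h1 h)
  rw [ConcreteCategory.isIso_iff_bijective]
  by_cases hxT : x ∈ T
  · refine bijective_desc isRkOne_structure (Abelian.comp_epiDesc π (ClSub.unitToPush ι) hk) hη
      (hs.symm ▸ hxT) ?_
    obtain ⟨y, hy, rfl⟩ := exists_generic_over hT hη hxT
    haveI := isLocallyNoetherian_subsch T hT
    exact mem_support_push ι (mem_support_of_rkOne isRkOne_structure hy)
  · have h2 : x ∉ CohB1.support ((Coh.push ι).obj (Coh.structureModule (VecSt.subsch X T hT))) :=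
      notMem_support_push hT (by haveI := isLocallyNoetherian_subsch T hT; exact QCoh.isCoh_structureModule') hxT
    exact ⟨fun a b _ => (eq_zero_of_notMem (hs.symm ▸ hxT) a).trans (eq_zero_of_notMem (hs.symm ▸ hxT) b).symm,
      fun b => ⟨0, ((map_zero (sm g x)).trans (eq_zero_of_notMem h2 b).symm)⟩⟩

variable (k : Type u) [Field k] [X.Over (Spec (CommRingCat.of k))] [IsProper (X ↘ Spec (CommRingCat.of k))]

/-- The degree of `E` on the reduced subscheme on `T`. -/
noncomputable abbrev degOn (E : X.Modules) (r : ℕ) (T : Set X) (hT : IsClosed T) : ℤ :=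
  letI : (VecSt.subsch X T hT).Over (Spec (CommRingCat.of k)) :=
    ⟨VecSt.subschι X T hT ≫ (X ↘ Spec (CommRingCat.of k))⟩
  Curv2.deg k (VecSt.subsch X T hT) ((Scheme.Modules.pullback (VecSt.subschι X T hT)).obj E) r

theorem euler_push_closed {Z : Scheme.{u}} [Z.Over (Spec (CommRingCat.of k))] (i : Z ⟶ X) [IsClosedImmersion i]
    (hi : i ≫ (X ↘ Spec (CommRingCat.of k)) = Z ↘ Spec (CommRingCat.of k)) {M : Z.Modules}
    (hM : Coh.IsQCoh M) : Curv2.euler k X ((Coh.push i).obj M) = Curv2.euler k Z M := by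
  refine (finsum_congr fun n => ?_).symm
  obtain ⟨l⟩ := PnCoh.exists_linearEquiv_push k i hi hM n
  rw [l.finrank_eq]

theorem degOn_eq {E : X.Modules} {r : ℕ} (hE : FlatMod.IsFinLocFreeOfRank r E) (T : Set X) (hT : IsClosed T) :
    degOn k E r T hT = (CurvePsi.eulerPsi k hE).toFun
      ((Coh.push (VecSt.subschι X T hT)).obj (Coh.structureModule (VecSt.subsch X T hT))) := by
  letI : (VecSt.subsch X T hT).Over (Spec (CommRingCat.of k)) :=
    ⟨VecSt.subschι X T hT ≫ (X ↘ Spec (CommRingCat.of k))⟩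
  haveI := isLocallyNoetherian_subsch T hT
  let ι := VecSt.subschι X T hT
  haveI := KFlatLib.isIso_projMod_of_isClosedImmersion ι (Coh.structureModule (VecSt.subsch X T hT)) E
  let e := CurveTensor.commIso E ((Coh.push ι).obj (Coh.structureModule (VecSt.subsch X T hT))) ≪≫
    asIso (KFlatLib.projMod ι (Coh.structureModule (VecSt.subsch X T hT)) E) ≪≫
    (Scheme.Modules.pushforward ι).mapIso (CurveTensor.structureTensorIso ((Scheme.Modules.pullback ι).obj E))
  have hEf : FlatMod.IsFinLocFree E := fun y => let ⟨W, hy, he⟩ := hE y; ⟨W, r, hy, he⟩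
  show Curv2.euler k _ _ - (r : ℤ) * Curv2.euler k _ _ = _ - (r : ℤ) * _
  have hq : Coh.IsQCoh ((Scheme.Modules.pullback ι).obj E) := (KZ.ClosedDev.isCoh_pull ι (CurveDeg.isCoh_of_isFinLocFree hEf)).1
  rw [← euler_push_closed k ι rfl hq,
    ← euler_push_closed k ι rfl (QCoh.isQCoh_structureModule (X := VecSt.subsch X T hT)),
    ← Euler.euler_congr k e]

theorem degOn_mv (h1 : topologicalKrullDim X ≤ 1) {E : X.Modules} {r : ℕ}
    (hE : FlatMod.IsFinLocFreeOfRank r E) {Y Z W U : Set X} (hY : IsClosed Y) (hZ : IsClosed Z)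
    (hW : IsClosed W) (hU : IsClosed U)
    (hY' : Y = ∅ ∨ VecSt.IsSubcurve X Y) (hZ' : Z = ∅ ∨ VecSt.IsSubcurve X Z)
    (hW' : W = ∅ ∨ VecSt.IsSubcurve X W) (hU' : U = ∅ ∨ VecSt.IsSubcurve X U)
    (hgU : ∀ η ∈ genericPoints (X : Type u), (η ∈ U ↔ η ∈ Y ∨ η ∈ Z))
    (hgW : ∀ η ∈ genericPoints (X : Type u), (η ∈ W ↔ η ∈ Y ∧ η ∈ Z)) :
    degOn k E r U hU + degOn k E r W hW = degOn k E r Y hY + degOn k E r Z hZ := by
  have hc : Coh.IsCoh (Coh.structureModule X) := QCoh.isCoh_structureModule'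
  obtain ⟨GY, πY, qY⟩ := exists_quotOn hc isTorsionFree_structure isRkOne_structure hY (exists_generic_of_subcurve hY')
  obtain ⟨GZ, πZ, qZ⟩ := exists_quotOn hc isTorsionFree_structure isRkOne_structure hZ (exists_generic_of_subcurve hZ')
  obtain ⟨GW, πW, qW⟩ := exists_quotOn hc isTorsionFree_structure isRkOne_structure hW (exists_generic_of_subcurve hW')
  obtain ⟨GU, πU, qU⟩ := exists_quotOn hc isTorsionFree_structure isRkOne_structure hU (exists_generic_of_subcurve hU')
  let ψ := CurvePsi.eulerPsi k hE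
  rw [degOn_eq k hE U hU, degOn_eq k hE W hW, degOn_eq k hE Y hY, degOn_eq k hE Z hZ,
    ← psi_quot_structure ψ h1 hU (exists_generic_of_subcurve hU') qU,
    ← psi_quot_structure ψ h1 hW (exists_generic_of_subcurve hW') qW,
    ← psi_quot_structure ψ h1 hY (exists_generic_of_subcurve hY') qY,
    ← psi_quot_structure ψ h1 hZ (exists_generic_of_subcurve hZ') qZ]
  exact psi_mv ψ h1 isRkOne_structure qY qZ qW qU hgU hgW

end Groth.Agent.TFOneX
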