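import Groth.Agent.TFOneX.Scalar
import Groth.Agent.KZ.ClosedDev
import Groth.Agent.Algz7.PullbackFormal

/-!
Simple torsion-free rank-one modules: criteria through the torsion-free quotients.
-/

set_option autoImplicit false
set_option linter.style.haveILetI false
set_option linter.unusedSectionVars false
set_option backward.isDefEq.respectTransparency false
set_option backward.isDefEq.respectTransparency.types false

universe u

open CategoryTheory CategoryTheory.Limits AlgebraicGeometry TopologicalSpace Opposite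

namespace Groth.Agent.TFOneX

variable (k : Type u) [Field k] {X : Scheme.{u}} [X.Over (Spec (CommRingCat.of k))]

theorem smulMod_unit_iso {M : X.Modules} {c : k} (hc : c ≠ 0) : IsIso (Formal.smulMod k M c) :=
  ⟨Formal.smulMod k M c⁻¹,
    by rw [← FFun.smulMod_mul, inv_mul_cancel₀ hc, FFun.smulMod_one],
    by rw [← FFun.smulMod_mul, mul_inv_cancel₀ hc, FFun.smulMod_one]⟩

theorem eq_zero_of_smul_comp {M N : X.Modules} {f : M ⟶ N} {c : k} (hf : f ≠ 0)
    (h : f ≫ Formal.smulMod k N c = 0) : c = 0 := by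
  by_contra hc
  haveI := smulMod_unit_iso k (M := N) hc
  exact hf ((cancel_mono (Formal.smulMod k N c)).1 (by rw [h, zero_comp]))

theorem smulMod_sub (M : X.Modules) (a b : k) :
    Formal.smulMod k M (a - b) = Formal.smulMod k M a - Formal.smulMod k M b := by
  rw [eq_sub_iff_add_eq, ← FFun.smulMod_add, sub_add_cancel]

/-- A module with an idempotent which is neither zero nor the identity is not simple. -/
theorem not_isSimple_of_idem {M : X.Modules} (e : M ⟶ M) (he : e ≫ e = e) (h0 : e ≠ 0) (h1 : e ≠ 𝟙 M) :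
    ¬ TFOne.IsSimple X k (X ↘ Spec (CommRingCat.of k)) M := by
  rintro ⟨hne, h⟩
  obtain ⟨c, hc⟩ : ∃ c : k, e = Formal.smulMod k M c := h e
  rcases eq_or_ne c 0 with rfl | hc0
  · exact h0 (hc.trans (FFun.smulMod_zero M))
  · haveI : IsIso e := hc ▸ smulMod_unit_iso k hc0
    exact h1 ((cancel_epi e).1 (he.trans (Category.comp_id e).symm))

section Quot

variable [IsLocallyNoetherian X] [AlgebraicGeometry.IsReduced X]

/-- An endomorphism induces one on each torsion-free quotient. -/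
theorem exists_induced {M G : X.Modules} (hrk : TFOne.IsRkOne X M) {Z : Set X} {π : M ⟶ G}
    (h : TFOne.IsQuotOn X M Z G π) (φ : M ⟶ M) : ∃ ψ : G ⟶ G, π ≫ ψ = φ ≫ π := by
  obtain ⟨hp, hc, ht, -⟩ := h
  haveI := hp
  refine ⟨Abelian.epiDesc π (φ ≫ π) (hom_eq_zero hc.1 ht _ fun η hη hs a => ?_), Abelian.comp_epiDesc _ _ _⟩
  have : sm (kernel.ι π) η a = 0 := (bijective_at hrk π hη hs).1 (by
    rw [← sm_comp, kernel.condition, sm_zero, map_zero])
  rw [sm_comp, this, map_zero]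

theorem sm_eq_of_induced {M G : X.Modules} (hrk : TFOne.IsRkOne X M) {π : M ⟶ G} [Epi π]
    {φ : M ⟶ M} {c : k} (hψ : π ≫ Formal.smulMod k G c = φ ≫ π) {η : X}
    (hη : η ∈ genericPoints (X : Type u)) (hs : η ∈ CohB1.support G) (a : M.presheaf.stalk η) :
    sm φ η a = sm (Formal.smulMod k M c) η a := by
  refine (bijective_at hrk π hη hs).1 ?_
  rw [← sm_comp, ← sm_comp, ← hψ, FFun.smulMod_naturality]

theorem exists_ne_zero_at {M : X.Modules} {η : X} (hs : η ∈ CohB1.support M) :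
    ∃ a : M.presheaf.stalk η, a ≠ 0 := by
  by_contra h
  push Not at h
  exact hs (subsingleton_of_forall_eq 0 h)

theorem mem_support_of_rkOne {M : X.Modules} (hrk : TFOne.IsRkOne X M) {η : X}
    (hη : η ∈ genericPoints (X : Type u)) : η ∈ CohB1.support M := fun hs => by
  haveI : Subsingleton (M.presheaf.stalk η) := hs
  obtain ⟨e⟩ := hrk η hη
  exact one_ne_zero (α := X.presheaf.stalk η) (e.symm.injective (Subsingleton.elim _ _))

theorem isSimple_of_common {M GY GZ : X.Modules} {Y Z : Set X} (hM : TFOne.IsTF1 X M)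
    {πY : M ⟶ GY} {πZ : M ⟶ GZ} (hY : TFOne.IsQuotOn X M Y GY πY) (hZ : TFOne.IsQuotOn X M Z GZ πZ)
    (hcov : ∀ η ∈ genericPoints (X : Type u), η ∈ Y ∨ η ∈ Z)
    {η₀ : X} (hη₀ : η₀ ∈ genericPoints (X : Type u)) (h₀Y : η₀ ∈ Y) (h₀Z : η₀ ∈ Z)
    (hsY : TFOne.IsSimple X k (X ↘ Spec (CommRingCat.of k)) GY)
    (hsZ : TFOne.IsSimple X k (X ↘ Spec (CommRingCat.of k)) GZ) :
    TFOne.IsSimple X k (X ↘ Spec (CommRingCat.of k)) M := by
  refine ⟨fun hz => ?_, fun φ => ?_⟩
  · exact mem_support_of_rkOne hM.2.2 hη₀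
      (ModuleCat.subsingleton_of_isZero (Functor.map_isZero (DerSch.stalkFunctor X η₀) hz))
  obtain ⟨ψY, hψY⟩ := exists_induced hM.2.2 hY φ
  obtain ⟨ψZ, hψZ⟩ := exists_induced hM.2.2 hZ φ
  obtain ⟨cY, rfl⟩ : ∃ c : k, ψY = Formal.smulMod k GY c := hsY.2 ψY
  obtain ⟨cZ, rfl⟩ : ∃ c : k, ψZ = Formal.smulMod k GZ c := hsZ.2 ψZ
  obtain ⟨hpY, -, -, hY'⟩ := hY
  obtain ⟨hpZ, -, -, hZ'⟩ := hZ
  haveI := hpY; haveI := hpZ
  obtain ⟨a, ha⟩ := exists_ne_zero_at (mem_support_of_rkOne hM.2.2 hη₀)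
  have e1 := sm_eq_of_induced k hM.2.2 hψY hη₀ (hY'.symm ▸ h₀Y) a
  have e2 := sm_eq_of_induced k hM.2.2 hψZ hη₀ (hZ'.symm ▸ h₀Z) a
  have hc : cY = cZ := eq_of_smul_eq k ha (by
    rw [← smulMod_sm, ← smulMod_sm, ← e1, ← e2])
  subst hc
  refine ⟨cY, hom_ext hM.1.1 hM.2.1 fun η hη _ b => ?_⟩
  rcases hcov η hη with h | h
  · exact sm_eq_of_induced k hM.2.2 hψY hη (hY'.symm ▸ h) b
  · exact sm_eq_of_induced k hM.2.2 hψZ hη (hZ'.symm ▸ h) b

theorem exists_generic_mem_of_subcurve {Y : Set X} (hY : VecSt.IsSubcurve X Y) :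
    ∃ η ∈ genericPoints (X : Type u), η ∈ Y := by
  obtain ⟨S, hS, ⟨C, hC⟩, rfl⟩ := hY
  refine ⟨(genericPoints.ofComponent ⟨C, hS hC⟩).1, (genericPoints.ofComponent ⟨C, hS hC⟩).2, C, hC, ?_⟩
  have h := (genericPoints.isGenericPoint_ofComponent ⟨C, hS hC⟩).mem
  exact h

theorem not_isSimple_of_decomp {M GY GZ : X.Modules} {Y Z : Set X}
    (hYs : VecSt.IsSubcurve X Y) (hZs : VecSt.IsSubcurve X Z)
    {πY : M ⟶ GY} {πZ : M ⟶ GZ} (hY : TFOne.IsQuotOn X M Y GY πY) (hZ : TFOne.IsQuotOn X M Z GZ πZ)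
    (hiso : IsIso (biprod.lift πY πZ)) : ¬ TFOne.IsSimple X k (X ↘ Spec (CommRingCat.of k)) M := by
  haveI := hiso
  obtain ⟨hpY, -, -, hY'⟩ := hY
  obtain ⟨hpZ, -, -, hZ'⟩ := hZ
  haveI := hpY; haveI := hpZ
  let L := biprod.lift πY πZ
  let e : M ⟶ M := πY ≫ biprod.inl ≫ inv L
  have hinv1 : inv L ≫ πY = biprod.fst := by
    rw [IsIso.inv_comp_eq]; simp [L]
  have hinv2 : inv L ≫ πZ = biprod.snd := by
    rw [IsIso.inv_comp_eq]; simp [L]
  have heY : e ≫ πY = πY := by simp [e, hinv1]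
  have heZ : e ≫ πZ = 0 := by simp [e, hinv2]
  refine not_isSimple_of_idem k e ?_ (fun h => ?_) fun h => ?_
  · rw [← cancel_mono L]
    apply biprod.hom_ext
    · simp [L, heY]
    · simp [L, heZ]
  · obtain ⟨η, hη, hηY⟩ := exists_generic_mem_of_subcurve hYs
    obtain ⟨b, hb⟩ := exists_ne_zero_at (M := GY) (η := η) (hY'.symm ▸ hηY)
    obtain ⟨a, rfl⟩ := surjective_sm πY η b
    refine hb ?_
    rw [← heY, h, zero_comp, sm_zero]
  · obtain ⟨η, hη, hηZ⟩ := exists_generic_mem_of_subcurve hZs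
    obtain ⟨b, hb⟩ := exists_ne_zero_at (M := GZ) (η := η) (hZ'.symm ▸ hηZ)
    obtain ⟨a, rfl⟩ := surjective_sm πZ η b
    refine hb ?_
    rw [h, Category.id_comp] at heZ
    rw [heZ, sm_zero]

/-- The torsion-free quotient cut out by an idempotent with generic values `0` or `1`. -/
theorem exists_quot_of_idem [IsNoetherian X] {M : X.Modules} (hM : TFOne.IsTF1 X M) (e : M ⟶ M)
    (he : e ≫ e = e) (S : Set X) (hS : S ⊆ genericPoints (X : Type u))
    (h1 : ∀ η ∈ S, ∀ a, sm e η a = a)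
    (h0 : ∀ η ∈ genericPoints (X : Type u), η ∉ S → ∀ a, sm e η a = 0) :
    TFOne.IsQuotOn X M (⋃ η ∈ S, closure {η}) (kernel (𝟙 M - e))
      (kernel.lift (𝟙 M - e) e (by rw [Preadditive.comp_sub, Category.comp_id, he, sub_self])) := by
  set π := kernel.lift (𝟙 M - e) e (by rw [Preadditive.comp_sub, Category.comp_id, he, sub_self]) with hπdef
  have hιe : kernel.ι (𝟙 M - e) ≫ e = kernel.ι (𝟙 M - e) := by
    have := kernel.condition (𝟙 M - e)
    rw [Preadditive.comp_sub, Category.comp_id, sub_eq_zero] at this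
    exact this.symm
  have hιπ : kernel.ι (𝟙 M - e) ≫ π = 𝟙 _ := by
    rw [← cancel_mono (kernel.ι (𝟙 M - e))]
    simp [π, hιe]
  haveI : IsSplitEpi π := IsSplitEpi.mk' ⟨kernel.ι _, hιπ⟩
  have hcoh : Coh.IsCoh (kernel (𝟙 M - e)) := QCoh.isCoh_kernel hM.1 hM.1 _
  have htf : TorSh.IsTorsionFree (kernel (𝟙 M - e)) := fun x => by
    let f : (kernel (𝟙 M - e)).presheaf.stalk x → M.presheaf.stalk x := fun m => sm (kernel.ι (𝟙 M - e)) x m
    haveI := hM.2.1 x
    exact Function.Injective.moduleIsTorsionFree f (injective_sm (kernel.ι (𝟙 M - e)) x)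
      (fun r m => LinearMap.map_smul (sm (kernel.ι (𝟙 M - e)) x) r m)
  refine ⟨inferInstance, hcoh, htf, Set.Subset.antisymm (fun x hx => ?_) (Set.iUnion₂_subset fun η hη => ?_)⟩
  · by_contra hxY
    have hYc : IsClosed (⋃ η ∈ S, closure ({η} : Set X)) :=
      (((genericPoints.finite TopologicalSpace.NoetherianSpace.finite_irreducibleComponents)).subset hS).isClosed_biUnion
        fun _ _ => isClosed_closure
    refine hx (subsingleton_of_forall_eq 0 fun a => ?_)
    obtain ⟨W, hxW, t, rfl⟩ := TopCat.Presheaf.exists_germ_eq (kernel (𝟙 M - e)).presheaf a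
    let W' : X.Opens := W ⊓ ⟨_, hYc.isOpen_compl⟩
    have hx' : x ∈ W' := ⟨hxW, hxY⟩
    rw [← (kernel (𝟙 M - e)).presheaf.germ_res_apply (homOfLE (inf_le_left : W' ≤ W)) x hx' t,
      show (kernel (𝟙 M - e)).presheaf.map (homOfLE (inf_le_left : W' ≤ W)).op t = 0 from
        TFCurvLib.eq_zero_of_germ_isField hcoh.1 htf _ fun y hy hf => ?_, map_zero]
    have hyg := mem_genericPoints_of_isField hf
    have hyS : y ∉ S := fun h => hy.2 (Set.mem_iUnion₂.2 ⟨y, h, subset_closure rfl⟩)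
    refine injective_sm (kernel.ι (𝟙 M - e)) y ?_
    rw [map_zero]
    exact (congrArg (fun f => sm f y _) hιe.symm).trans ((sm_comp _ _ _ _).trans (h0 y hyg hyS _))
  · refine (QCoh.isClosed_support_of_isFT hcoh.1 hcoh.2).closure_subset_iff.2 (Set.singleton_subset_iff.2 ?_)
    intro hs
    haveI : Subsingleton ((kernel (𝟙 M - e)).presheaf.stalk η) := hs
    refine mem_support_of_rkOne hM.2.2 (hS hη) (subsingleton_of_forall_eq 0 fun a => ?_)
    have : sm e η a = 0 := by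
      rw [show e = π ≫ kernel.ι _ from (kernel.lift_ι _ _ _).symm, sm_comp]
      exact (congrArg (sm (kernel.ι (𝟙 M - e)) η) (@Subsingleton.elim _ hs (sm π η a) 0)).trans (map_zero _)
    rw [h1 η hη a] at this
    exact this

end Quot

section Decomp

variable [IsProper (X ↘ Spec (CommRingCat.of k))] [AlgebraicGeometry.IsReduced X]

theorem exists_prod_eigen {M : X.Modules} (φ : M ⟶ M) (cη : X → k)
    (hc : ∀ η ∈ genericPoints (X : Type u), ∀ a, sm φ η a = sm (Formal.smulMod k M (cη η)) η a)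
    (s : Finset k) : ∃ ψ : M ⟶ M, ∀ η ∈ genericPoints (X : Type u), ∀ a,
      sm ψ η a = sm (Formal.smulMod k M (∏ c ∈ s, (cη η - c))) η a := by
  classical
  induction s using Finset.induction_on with
  | empty => exact ⟨𝟙 M, fun η _ a => by rw [Finset.prod_empty, FFun.smulMod_one]⟩
  | insert c s hcs ih =>
    obtain ⟨ψ, hψ⟩ := ih
    refine ⟨ψ ≫ (φ - Formal.smulMod k M c), fun η hη a => ?_⟩
    rw [Finset.prod_insert hcs, FFun.smulMod_mul, sm_comp, sm_comp, sm_sub, hc η hη, ← sm_sub,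
      ← smulMod_sub, hψ η hη]

theorem exists_decomp_of_not_isSimple {M : X.Modules} (hM : TFOne.IsTF1 X M) [Nonempty X]
    (hgi : ∀ (C : Set X) (hC : C ∈ irreducibleComponents (X : Type u)),
      GeometricallyIntegral (VecSt.subschι X C (isClosed_of_mem_irreducibleComponents C hC) ≫
        (X ↘ Spec (CommRingCat.of k))))
    (hns : ¬ TFOne.IsSimple X k (X ↘ Spec (CommRingCat.of k)) M) :
    ∃ (Y Z : Set X) (_ : IsClosed Y) (_ : IsClosed Z) (GY GZ : X.Modules) (πY : M ⟶ GY) (πZ : M ⟶ GZ),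
      VecSt.IsSubcurve X Y ∧ VecSt.IsSubcurve X Z ∧ Y ≠ Set.univ ∧ Z ≠ Set.univ ∧
        TFOne.IsQuotOn X M Y GY πY ∧ TFOne.IsQuotOn X M Z GZ πZ ∧ IsIso (biprod.lift πY πZ) := by
  classical
  haveI := CurveCohLib.isNoetherian_of_proper (k := k) (X := X)
  obtain ⟨η₀, hη₀, -⟩ := NormAmpleX.exists_generic_specializes (Classical.arbitrary (X : Type u))
  have hMne : ¬ IsZero M := fun hz => mem_support_of_rkOne hM.2.2 hη₀
    (ModuleCat.subsingleton_of_isZero (Functor.map_isZero (DerSch.stalkFunctor X η₀) hz))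
  obtain ⟨φ, hφ⟩ : ∃ φ : M ⟶ M, ∀ c : k, φ ≠ Formal.smulMod k M c := by
    by_contra h
    push Not at h
    exact hns ⟨hMne, h⟩
  have hscal : ∀ η : X, η ∈ genericPoints (X : Type u) →
      ∃ c : k, ∀ a, sm φ η a = sm (Formal.smulMod k M c) η a := by
    intro η hη
    letI := (NormAmpleX.isField_stalk_of_generic hη).toField
    obtain ⟨e⟩ := hM.2.2 η hη
    let v : M.presheaf.stalk η := e.symm 1
    have hv : ∀ w, w = e w • v := fun w => e.injective (by simp [v])
    let a := e (sm φ η v)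
    have ha : ∀ w, sm φ η w = a • w := fun w => by
      conv_lhs => rw [hv w]
      conv_rhs => rw [hv w]
      rw [LinearMap.map_smul, hv (sm φ η v), smul_comm]
    obtain ⟨c, hc⟩ := exists_eq_scalar k hη (closure {η}) isClosed_closure rfl (hgi _ hη) a
      (isIntegral_eigen k hM.1 φ hη (mem_support_of_rkOne hM.2.2 hη) a ha)
    exact ⟨c, fun w => by rw [ha, smulMod_sm, hc]⟩
  choose c hc using hscal
  let cη : X → k := fun η => if h : η ∈ genericPoints (X : Type u) then c η h else 0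
  have hcη : ∀ η ∈ genericPoints (X : Type u), ∀ a, sm φ η a = sm (Formal.smulMod k M (cη η)) η a := by
    intro η hη a
    simp only [cη, dif_pos hη]
    exact hc η hη a
  obtain ⟨η₁, hη₁, hne⟩ : ∃ η ∈ genericPoints (X : Type u), cη η ≠ cη η₀ := by
    by_contra h
    push Not at h
    exact hφ (cη η₀) (hom_ext hM.1.1 hM.2.1 fun η hη _ a => by rw [hcη η hη, h η hη])
  have hfin : (genericPoints (X : Type u)).Finite :=
    genericPoints.finite TopologicalSpace.NoetherianSpace.finite_irreducibleComponents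
  let s : Finset k := (hfin.toFinset.image cη).erase (cη η₀)
  obtain ⟨ψ, hψ⟩ := exists_prod_eigen k φ cη hcη s
  let P : k := ∏ d ∈ s, (cη η₀ - d)
  have hP : P ≠ 0 := Finset.prod_ne_zero_iff.2 fun d hd =>
    sub_ne_zero.2 fun h => (Finset.mem_erase.1 hd).1 h.symm
  let e : M ⟶ M := ψ ≫ Formal.smulMod k M P⁻¹
  let S : Set X := {η | η ∈ genericPoints (X : Type u) ∧ cη η = cη η₀}
  let S' : Set X := {η | η ∈ genericPoints (X : Type u) ∧ cη η ≠ cη η₀}
  have h1 : ∀ η ∈ S, ∀ a, sm e η a = a := by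
    rintro η ⟨hη, heq⟩ a
    simp only [e]
    rw [sm_comp, hψ η hη, heq, ← sm_comp, ← FFun.smulMod_mul]
    show sm (Formal.smulMod k M (P⁻¹ * P)) η a = a
    rw [inv_mul_cancel₀ hP, FFun.smulMod_one, sm_id]
  have h0 : ∀ η ∈ genericPoints (X : Type u), η ∉ S → ∀ a, sm e η a = 0 := by
    intro η hη hηS a
    simp only [e]
    rw [sm_comp, hψ η hη, Finset.prod_eq_zero (i := cη η), FFun.smulMod_zero, sm_zero, map_zero]
    · exact Finset.mem_erase.2 ⟨fun h => hηS ⟨hη, h⟩, Finset.mem_image.2 ⟨η, hfin.mem_toFinset.2 hη, rfl⟩⟩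
    · exact sub_self _
  have he : e ≫ e = e := hom_ext hM.1.1 hM.2.1 fun η hη _ a => by
    rw [sm_comp]
    by_cases hS : η ∈ S
    · rw [h1 η hS, h1 η hS]
    · rw [h0 η hη hS, h0 η hη hS]
  have he' : (𝟙 M - e) ≫ (𝟙 M - e) = 𝟙 M - e := by
    simp only [Preadditive.sub_comp, Preadditive.comp_sub, Category.id_comp, Category.comp_id, he,
      sub_self, sub_zero]
  have h1' : ∀ η ∈ S', ∀ a, sm (𝟙 M - e) η a = a := by
    rintro η ⟨hη, hne'⟩ a
    rw [sm_sub, sm_id, h0 η hη (fun h => hne' h.2), sub_zero]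
  have h0' : ∀ η ∈ genericPoints (X : Type u), η ∉ S' → ∀ a, sm (𝟙 M - e) η a = 0 := by
    intro η hη hS a
    rw [sm_sub, sm_id, h1 η ⟨hη, by_contra fun h => hS ⟨hη, h⟩⟩, sub_self]
  have hQ := exists_quot_of_idem hM e he S (fun η h => h.1) h1 h0
  have hQ' := exists_quot_of_idem hM (𝟙 M - e) he' S' (fun η h => h.1) h1' h0'
  have hsub : ∀ T : Set X, T ⊆ genericPoints (X : Type u) → T.Nonempty →
      VecSt.IsSubcurve X (⋃ η ∈ T, closure {η}) := fun T hT hne =>
    ⟨(fun η => closure {η}) '' T, by rintro _ ⟨η, hη, rfl⟩; exact hT hη, hne.image _,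
      by rw [Set.sUnion_image]⟩
  have hcl : ∀ T : Set X, T ⊆ genericPoints (X : Type u) → IsClosed (⋃ η ∈ T, closure ({η} : Set X)) :=
    fun T hT => (hfin.subset hT).isClosed_biUnion fun _ _ => isClosed_closure
  have hnot : ∀ T : Set X, T ⊆ genericPoints (X : Type u) → ∀ η ∈ genericPoints (X : Type u),
      η ∉ T → (⋃ η ∈ T, closure ({η} : Set X)) ≠ Set.univ := by
    intro T hT η hη hηT h
    obtain ⟨η', hη', hmem⟩ := Set.mem_iUnion₂.1 (h.symm ▸ Set.mem_univ η : η ∈ ⋃ η ∈ T, closure ({η} : Set X))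
    exact hηT (NormAmpleX.eq_of_specializes_generic hη (specializes_iff_mem_closure.2 hmem) ▸ hη')
  refine ⟨_, _, hcl S fun η h => h.1, hcl S' fun η h => h.1, _, _, _, _,
    hsub S (fun η h => h.1) ⟨η₀, hη₀, rfl⟩, hsub S' (fun η h => h.1) ⟨η₁, hη₁, hne⟩,
    hnot S (fun η h => h.1) η₁ hη₁ (fun h => hne h.2),
    hnot S' (fun η h => h.1) η₀ hη₀ (fun h => h.2 rfl), hQ, hQ', ?_⟩
  refine ⟨biprod.desc (kernel.ι _) (kernel.ι _), ?_, ?_⟩
  · rw [biprod.lift_desc, kernel.lift_ι, kernel.lift_ι, add_sub_cancel]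
  · have a1 : kernel.ι (𝟙 M - e) ≫ e = kernel.ι (𝟙 M - e) := by
      have := kernel.condition (𝟙 M - e)
      rw [Preadditive.comp_sub, Category.comp_id, sub_eq_zero] at this
      exact this.symm
    have a2 : kernel.ι (𝟙 M - (𝟙 M - e)) ≫ e = 0 := by
      conv_lhs => arg 2; rw [show e = 𝟙 M - (𝟙 M - e) from (sub_sub_cancel _ _).symm]
      exact kernel.condition (𝟙 M - (𝟙 M - e))
    apply biprod.hom_ext <;> apply biprod.hom_ext'
    · rw [← cancel_mono (kernel.ι (𝟙 M - e))]; simp [a1]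
    · rw [← cancel_mono (kernel.ι (𝟙 M - e))]; simp [a2]
    · rw [← cancel_mono (kernel.ι (𝟙 M - (𝟙 M - e)))]
      simp [Preadditive.comp_sub, a1]
    · rw [← cancel_mono (kernel.ι (𝟙 M - (𝟙 M - e)))]
      simp [Preadditive.comp_sub, a2]

end Decomp

end Groth.Agent.TFOneX
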