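import Groth.Agent.TFOneX.Simple
import Groth.Agent.QCoh.DevissageP

/-!
Extensions of simple modules pushed forward from two subcurves.
-/

set_option autoImplicit false
set_option linter.style.haveILetI false
set_option linter.unusedSectionVars false
set_option backward.isDefEq.respectTransparency false
set_option backward.isDefEq.respectTransparency.types false

universe u

open CategoryTheory CategoryTheory.Limits AlgebraicGeometry TopologicalSpace Opposite

namespace Groth.Agent.TFOneX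

variable {X : Scheme.{u}}

theorem range_subschι (Y : Set X) (hY : IsClosed Y) : Set.range (VecSt.subschι X Y hY) = Y := by
  show Set.range (Scheme.IdealSheafData.subschemeι _) = Y
  rw [Scheme.IdealSheafData.range_subschemeι]
  rfl

theorem isReduced_subsch (Y : Set X) (hY : IsClosed Y) : AlgebraicGeometry.IsReduced (VecSt.subsch X Y hY) :=
  inferInstance

/-- Generic points of the reduced scheme on a subcurve are generic points of `X`. -/
theorem generic_of_subsch {Y : Set X} (hY : IsClosed Y) (hYs : VecSt.IsSubcurve X Y)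
    {y : VecSt.subsch X Y hY} (hy : y ∈ genericPoints (VecSt.subsch X Y hY : Type u)) :
    (VecSt.subschι X Y hY y : X) ∈ genericPoints (X : Type u) := by
  obtain ⟨S, hS, -, hYS⟩ := hYs
  have hm : VecSt.subschι X Y hY y ∈ Y := (range_subschι Y hY).subset (Set.mem_range_self y)
  obtain ⟨C, hC, hyC⟩ := (hYS ▸ hm : VecSt.subschι X Y hY y ∈ ⋃₀ S)
  let η := genericPoints.ofComponent ⟨C, hS hC⟩
  have hg := genericPoints.isGenericPoint_ofComponent ⟨C, hS hC⟩
  obtain ⟨y', hy'⟩ : (η : X) ∈ Set.range (VecSt.subschι X Y hY) :=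
    (range_subschι Y hY).symm ▸ hYS ▸ ⟨C, hC, hg.mem⟩
  have hsp : (η : X) ⤳ VecSt.subschι X Y hY y := hg.specializes hyC
  rw [← hy', (VecSt.subschι X Y hY).isClosedEmbedding.isInducing.specializes_iff] at hsp
  rw [← NormAmpleX.eq_of_specializes_generic hy hsp, hy']
  exact η.2

theorem exists_generic_over {Y : Set X} (hY : IsClosed Y) {η : X} (hη : η ∈ genericPoints (X : Type u))
    (hηY : η ∈ Y) : ∃ y ∈ genericPoints (VecSt.subsch X Y hY : Type u), VecSt.subschι X Y hY y = η := by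
  obtain ⟨y, rfl⟩ := (range_subschι Y hY).symm.subset hηY
  obtain ⟨y', hy', hsp⟩ := NormAmpleX.exists_generic_specializes y
  have h1 : (VecSt.subschι X Y hY y') ⤳ VecSt.subschι X Y hY y := hsp.map (VecSt.subschι X Y hY).continuous
  exact ⟨y', hy', NormAmpleX.eq_of_specializes_generic hη h1⟩

/-- A pushforward is nonzero at the image of a point of the support. -/
theorem mem_support_push {Z : Scheme.{u}} (i : Z ⟶ X) [IsClosedImmersion i] {M : Z.Modules} {z : Z}
    (hz : z ∈ CohB1.support M) : i z ∈ CohB1.support ((Coh.push i).obj M) := fun hs => by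
  haveI : Subsingleton (((Coh.push i).obj M).presheaf.stalk (i z)) := hs
  refine hz (subsingleton_of_forall_eq 0 fun a => ?_)
  obtain ⟨V, hzV, t, rfl⟩ := TopCat.Presheaf.exists_germ_eq M.presheaf a
  obtain ⟨U, rfl⟩ := KZ.ClosedDev.exists_preimage_eq i V
  let t' : Γ((Coh.push i).obj M, U) := t
  obtain ⟨W, hxW, j, j', hW⟩ := ((Coh.push i).obj M).presheaf.germ_eq (i z) hzV hzV t' 0
    ((Subsingleton.elim (((Coh.push i).obj M).presheaf.germ U (i z) hzV t') 0).trans (map_zero _).symm)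
  rw [map_zero] at hW
  rw [← M.presheaf.germ_res_apply (homOfLE (fun y (hy : i y ∈ W) => (j.le hy : i y ∈ U)) : i ⁻¹ᵁ W ⟶ i ⁻¹ᵁ U)
    z hxW t, show M.presheaf.map (homOfLE (fun y (hy : i y ∈ W) => (j.le hy : i y ∈ U)) :
      i ⁻¹ᵁ W ⟶ i ⁻¹ᵁ U).op t = 0 from hW, map_zero]

variable [IsNoetherian X]

theorem isLocallyNoetherian_subsch (Y : Set X) (hY : IsClosed Y) :
    IsLocallyNoetherian (VecSt.subsch X Y hY) :=
  LocallyOfFiniteType.isLocallyNoetherian (VecSt.subschι X Y hY)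

theorem mem_support_push_tf1 [AlgebraicGeometry.IsReduced X] {Y : Set X} (hY : IsClosed Y)
    {I : (VecSt.subsch X Y hY).Modules}
    (hI : TFOne.IsTF1 (VecSt.subsch X Y hY) I) {η : X} (hη : η ∈ genericPoints (X : Type u)) (hηY : η ∈ Y) :
    η ∈ CohB1.support ((Coh.push (VecSt.subschι X Y hY)).obj I) := by
  haveI := isReduced_subsch Y hY
  haveI := isLocallyNoetherian_subsch Y hY
  obtain ⟨y, hy, rfl⟩ := exists_generic_over hY hη hηY
  exact mem_support_push _ (mem_support_of_rkOne hI.2.2 hy)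

theorem notMem_support_push {Y : Set X} (hY : IsClosed Y) {I : (VecSt.subsch X Y hY).Modules}
    (hI : Coh.IsCoh I) {η : X} (hηY : η ∉ Y) :
    η ∉ CohB1.support ((Coh.push (VecSt.subschι X Y hY)).obj I) := fun h =>
  hηY ((range_subschι Y hY).subset (QCoh.support_push_subset _ hI.1 h))

theorem push_hom_eq_zero [AlgebraicGeometry.IsReduced X] {Y Z : Set X} (hY : IsClosed Y) (hZ : IsClosed Z)
    (hZs : VecSt.IsSubcurve X Z) {I : (VecSt.subsch X Y hY).Modules} (hI : Coh.IsCoh I)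
    {J : (VecSt.subsch X Z hZ).Modules} (hJ : TFOne.IsTF1 (VecSt.subsch X Z hZ) J)
    (hno : ∀ η ∈ genericPoints (X : Type u), η ∈ Y → η ∉ Z)
    (f : (Coh.push (VecSt.subschι X Y hY)).obj I ⟶ (Coh.push (VecSt.subschι X Z hZ)).obj J) : f = 0 := by
  haveI := isReduced_subsch Z hZ
  haveI := isLocallyNoetherian_subsch Z hZ
  refine Scheme.Modules.hom_ext _ _ fun U => ?_
  ext t
  show f.app U t = 0
  refine TFCurvLib.eq_zero_of_germ_isField (X := VecSt.subsch X Z hZ) hJ.1.1 hJ.2.1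
    (U := (VecSt.subschι X Z hZ) ⁻¹ᵁ U) (f.app U t) fun y hy hf => ?_
  have hg : (VecSt.subschι X Z hZ y : X) ∈ genericPoints (X : Type u) :=
    generic_of_subsch hZ hZs (mem_genericPoints_of_isField hf)
  have hηY : (VecSt.subschι X Z hZ y : X) ∉ Y := fun h =>
    hno _ hg h ((range_subschι Z hZ).subset (Set.mem_range_self y))
  haveI : Subsingleton (((Coh.push (VecSt.subschι X Y hY)).obj I).presheaf.stalk (VecSt.subschι X Z hZ y)) :=
    notMem_support_iff.1 (notMem_support_push hY hI hηY)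
  obtain ⟨W, hxW, j, j', hW⟩ := ((Coh.push (VecSt.subschι X Y hY)).obj I).presheaf.germ_eq
    (VecSt.subschι X Z hZ y) hy hy t 0 ((Subsingleton.elim _ 0).trans (map_zero _).symm)
  rw [map_zero] at hW
  have h2 : ((Coh.push (VecSt.subschι X Z hZ)).obj J).presheaf.map j.op (f.app U t) = 0 := by
    refine (ConcreteCategory.congr_hom (f.mapPresheaf.naturality j.op) t).symm.trans ?_
    show f.app W (((Coh.push (VecSt.subschι X Y hY)).obj I).presheaf.map j.op t) = 0
    rw [hW, map_zero]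
  let j2 : (VecSt.subschι X Z hZ) ⁻¹ᵁ W ⟶ (VecSt.subschι X Z hZ) ⁻¹ᵁ U :=
    homOfLE fun z (hz : VecSt.subschι X Z hZ z ∈ W) => (j.le hz : VecSt.subschι X Z hZ z ∈ U)
  rw [← J.presheaf.germ_res_apply j2 y hxW, show J.presheaf.map j2.op (f.app U t) = 0 from h2, map_zero]

/-- The two subcurves of an extension of rank one have no common component. -/
theorem no_common [AlgebraicGeometry.IsReduced X] {Y Z : Set X} {hY : IsClosed Y} {hZ : IsClosed Z}
    {M : X.Modules} (hM : TFOne.IsRkOne X M)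
    {I : (VecSt.subsch X Y hY).Modules} (hI : TFOne.IsTF1 (VecSt.subsch X Y hY) I)
    {J : (VecSt.subsch X Z hZ).Modules} (hJ : TFOne.IsTF1 (VecSt.subsch X Z hZ) J)
    (a : (Coh.push (VecSt.subschι X Y hY)).obj I ⟶ M) (b : M ⟶ (Coh.push (VecSt.subschι X Z hZ)).obj J)
    (w : a ≫ b = 0) [Mono a] [Epi b] {η : X} (hη : η ∈ genericPoints (X : Type u)) (hηY : η ∈ Y) :
    η ∉ Z := fun hηZ => by
  obtain ⟨u, hu⟩ := exists_ne_zero_at (mem_support_push_tf1 hY hI hη hηY)
  have hb := (bijective_at hM b hη (mem_support_push_tf1 hZ hJ hη hηZ)).1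
  refine hu (injective_sm a η ((hb ?_).trans (map_zero _).symm))
  rw [← sm_comp, w, sm_zero, map_zero]

variable (k : Type u) [Field k] [X.Over (Spec (CommRingCat.of k))]

theorem exists_scalar_push {Y : Set X} (hY : IsClosed Y) {I : (VecSt.subsch X Y hY).Modules}
    (hI : Coh.IsCoh I)
    (hs : TFOne.IsSimple (VecSt.subsch X Y hY) k (VecSt.subschι X Y hY ≫ (X ↘ Spec (CommRingCat.of k))) I)
    (ψ : (Coh.push (VecSt.subschι X Y hY)).obj I ⟶ (Coh.push (VecSt.subschι X Y hY)).obj I) :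
    ∃ c : k, ψ = Formal.smulMod k ((Coh.push (VecSt.subschι X Y hY)).obj I) c := by
  letI : (VecSt.subsch X Y hY).Over (Spec (CommRingCat.of k)) :=
    ⟨VecSt.subschι X Y hY ≫ (X ↘ Spec (CommRingCat.of k))⟩
  obtain ⟨χ, hχ⟩ := (KZ.ClosedDev.push_map_bijective (VecSt.subschι X Y hY) (M := I) (N := I)
    (QCoh.isCoh_push (VecSt.subschι X Y hY) hI).1).2 ψ
  obtain ⟨c, rfl⟩ := hs.2 χ
  refine ⟨c, hχ.symm.trans ?_⟩
  exact Algz7.pushforward_smulMod (VecSt.subschι X Y hY) rfl I c

theorem not_isZero_push {Z : Scheme.{u}} (i : Z ⟶ X) [IsClosedImmersion i] {J : Z.Modules} (hJ : ¬ IsZero J) :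
    ¬ IsZero ((Coh.push i).obj J) := fun h => hJ <| by
  rw [IsZero.iff_id_eq_zero] at h ⊢
  refine KZ.ClosedDev.push_map_injective i _ _ ?_
  rw [Functor.map_zero]
  exact ((Scheme.Modules.pushforward i).map_id J).trans h

theorem isSimple_iff_not_isSplitEpi [AlgebraicGeometry.IsReduced X] {Y Z : Set X} {hY : IsClosed Y}
    {hZ : IsClosed Z} (hYs : VecSt.IsSubcurve X Y) (hZs : VecSt.IsSubcurve X Z) {M : X.Modules} (hM : TFOne.IsRkOne X M)
    {I : (VecSt.subsch X Y hY).Modules} (hI : TFOne.IsTF1 (VecSt.subsch X Y hY) I)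
    (hIs : TFOne.IsSimple (VecSt.subsch X Y hY) k (VecSt.subschι X Y hY ≫ (X ↘ Spec (CommRingCat.of k))) I)
    {J : (VecSt.subsch X Z hZ).Modules} (hJ : TFOne.IsTF1 (VecSt.subsch X Z hZ) J)
    (hJs : TFOne.IsSimple (VecSt.subsch X Z hZ) k (VecSt.subschι X Z hZ ≫ (X ↘ Spec (CommRingCat.of k))) J)
    (a : (Coh.push (VecSt.subschι X Y hY)).obj I ⟶ M) (b : M ⟶ (Coh.push (VecSt.subschι X Z hZ)).obj J)
    (w : a ≫ b = 0) (hex : (ShortComplex.mk a b w).ShortExact) :
    TFOne.IsSimple X k (X ↘ Spec (CommRingCat.of k)) M ↔ ¬ IsSplitEpi b := by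
  haveI : Mono a := hex.mono_f
  haveI : Epi b := hex.epi_g
  have hI0 : ¬ IsZero ((Coh.push (VecSt.subschι X Y hY)).obj I) := not_isZero_push _ hIs.1
  have hJ0 : ¬ IsZero ((Coh.push (VecSt.subschι X Z hZ)).obj J) := not_isZero_push _ hJs.1
  have ha0 : a ≠ 0 := fun h => hI0 (IsZero.of_mono_eq_zero a h)
  have hb0 : b ≠ 0 := fun h => hJ0 (IsZero.of_epi_eq_zero b h)
  constructor
  · intro hs hsplit
    obtain ⟨⟨s⟩⟩ := hsplit
    refine not_isSimple_of_idem k (b ≫ s.section_) ?_ (fun h => hb0 ?_) (fun h => ha0 ?_) hs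
    · rw [Category.assoc, s.id_assoc]
    · rw [← Category.comp_id b, ← s.id, ← Category.assoc, h, zero_comp]
    · rw [← Category.comp_id a, ← h, reassoc_of% w, zero_comp]
  · intro hns
    have hzero : ∀ f : (Coh.push (VecSt.subschι X Y hY)).obj I ⟶ (Coh.push (VecSt.subschι X Z hZ)).obj J,
        f = 0 := push_hom_eq_zero hY hZ hZs hI.1 hJ fun η hη h => no_common hM hI hJ a b w hη h
    refine ⟨fun hz => hb0 (hz.eq_of_src b 0), fun φ => ?_⟩
    obtain ⟨c, hc⟩ := exists_scalar_push k hY hI.1 hIs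
      (hex.exact.lift (a ≫ φ) ((Category.assoc _ _ _).trans (hzero _)))
    have hac : a ≫ (φ - Formal.smulMod k M c) = 0 := by
      rw [Preadditive.comp_sub, ← FFun.smulMod_naturality, ← hc, sub_eq_zero]
      exact (hex.exact.lift_f _ _).symm
    let ψ := hex.exact.desc (φ - Formal.smulMod k M c) hac
    have hψ : b ≫ ψ = φ - Formal.smulMod k M c := hex.exact.g_desc _ _
    obtain ⟨d, hd⟩ := exists_scalar_push k hZ hJ.1 hJs (ψ ≫ b)
    by_cases hd0 : d = 0
    · subst hd0
      rw [FFun.smulMod_zero] at hd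
      refine ⟨c, sub_eq_zero.1 ?_⟩
      have hl : hex.exact.lift ψ hd = 0 := push_hom_eq_zero hZ hY hYs hJ.1 hI
        (fun η hη h h' => no_common hM hI hJ a b w hη h' h) _
      have hψ0 : ψ = 0 := by
        rw [← hex.exact.lift_f ψ hd, hl, zero_comp]
      rw [← hψ, hψ0, comp_zero]
    · exfalso
      haveI := smulMod_unit_iso k (M := (Coh.push (VecSt.subschι X Z hZ)).obj J) hd0
      exact hns (IsSplitEpi.mk' ⟨inv (Formal.smulMod k ((Coh.push (VecSt.subschι X Z hZ)).obj J) d) ≫ ψ,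
        by rw [Category.assoc, hd, IsIso.inv_hom_id]⟩)

end Groth.Agent.TFOneX
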