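import Groth.Agent.TFOneX.Setup

/-!
Glue for the statements on elementary modifications.
-/

set_option autoImplicit false
set_option linter.style.haveILetI false
set_option linter.unusedSectionVars false
set_option backward.isDefEq.respectTransparency false
set_option backward.isDefEq.respectTransparency.types false

universe u

open CategoryTheory CategoryTheory.Limits AlgebraicGeometry TopologicalSpace Opposite

namespace Groth.Agent.TFOneX

variable {X : Scheme.{u}}

theorem mem_comps_iff {η : X} (hη : η ∈ genericPoints (X : Type u)) (P : Set X → Prop) :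
    η ∈ ⋃₀ {C | C ∈ irreducibleComponents (X : Type u) ∧ P C} ↔ P (closure {η}) := by
  refine ⟨?_, fun h => ⟨_, ⟨hη, h⟩, subset_closure rfl⟩⟩
  rintro ⟨C, ⟨hC, hP⟩, hηC⟩
  rwa [hη.eq_of_ge hC.1 (closure_minimal (Set.singleton_subset_iff.2 hηC)
    (isClosed_of_mem_irreducibleComponents C hC))] at hP

theorem closure_subset_iff_mem {η : X} {T : Set X} (hT : IsClosed T) : closure ({η} : Set X) ⊆ T ↔ η ∈ T :=
  ⟨fun h => h (subset_closure rfl), fun h => closure_minimal (Set.singleton_subset_iff.2 h) hT⟩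

theorem mem_compl_iff {η : X} (hη : η ∈ genericPoints (X : Type u)) {Y : Set X} (hY : IsClosed Y) :
    η ∈ ⋃₀ {C | C ∈ irreducibleComponents (X : Type u) ∧ ¬ C ⊆ Y} ↔ η ∉ Y :=
  (mem_comps_iff hη fun C => ¬ C ⊆ Y).trans (not_congr (closure_subset_iff_mem hY))

theorem mem_diff_iff {η : X} (hη : η ∈ genericPoints (X : Type u)) {Y Z : Set X} (hY : IsClosed Y)
    (hZ : IsClosed Z) :
    η ∈ ⋃₀ {C | C ∈ irreducibleComponents (X : Type u) ∧ C ⊆ Z ∧ ¬ C ⊆ Y} ↔ η ∈ Z ∧ η ∉ Y :=
  (mem_comps_iff hη fun C => C ⊆ Z ∧ ¬ C ⊆ Y).trans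
    (and_congr (closure_subset_iff_mem hZ) (not_congr (closure_subset_iff_mem hY)))

theorem isSubcurve_univ {Y : Set X} (hY : VecSt.IsSubcurve X Y) : VecSt.IsSubcurve X Set.univ := by
  obtain ⟨S, hS, ⟨C, hC⟩, -⟩ := hY
  exact ⟨irreducibleComponents (X : Type u), subset_rfl, ⟨C, hS hC⟩, sUnion_irreducibleComponents.symm⟩

variable (k : Type u) [Field k] [X.Over (Spec (CommRingCat.of k))]
  [IsProper (X ↘ Spec (CommRingCat.of k))] [AlgebraicGeometry.IsReduced X]

theorem rBeta_nonneg_of_semistable (h1 : topologicalKrullDim X ≤ 1) {F E : X.Modules} {r : ℕ}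
    (hE : FlatMod.IsFinLocFreeOfRank r E) {d : ℤ} (hχ : Curv2.euler k X F = d)
    (hEd : Curv2.deg k X E r = -(r : ℤ) * d)
    (hss : TFOne.IsSemistable X k (X ↘ Spec (CommRingCat.of k)) F E r) {T : Set X} (hT : IsClosed T)
    (hTs : T = ∅ ∨ VecSt.IsSubcurve X T) {G : X.Modules} {π : F ⟶ G} (h : TFOne.IsQuotOn X F T G π) :
    0 ≤ TFOne.rBeta X k (X ↘ Spec (CommRingCat.of k)) T hT E r G := by
  rcases hTs with he | hs
  · exact (rBeta_empty k hE hT he h).ge
  · by_cases hu : T = Set.univ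
    · exact (rBeta_univ k h1 hss.1.1 hss.1.2.1 hss.1.2.2 hE hχ hEd hT hu h).ge
    · exact hss.2 T hT hs hu G π h

end Groth.Agent.TFOneX
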