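import Groth.Agent.TFOneX.Sub

/-!
The numbers `r·χ(G) + deg(E|_T)` on a subcurve and on the curve.
-/

set_option autoImplicit false
set_option linter.style.haveILetI false
set_option linter.unusedSectionVars false
set_option backward.isDefEq.respectTransparency false
set_option backward.isDefEq.respectTransparency.types false

universe u

open CategoryTheory CategoryTheory.Limits AlgebraicGeometry TopologicalSpace Opposite

namespace Groth.Agent.TFOneX

variable {k : Type u} [Field k]

theorem euler_push' {Z B : Scheme.{u}} [Z.Over (Spec (CommRingCat.of k))] [B.Over (Spec (CommRingCat.of k))]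
    (i : Z ⟶ B) [IsClosedImmersion i] (hi : i ≫ (B ↘ Spec (CommRingCat.of k)) = Z ↘ Spec (CommRingCat.of k))
    {M : Z.Modules} (hM : Coh.IsQCoh M) : Curv2.euler k B ((Coh.push i).obj M) = Curv2.euler k Z M := by
  refine (finsum_congr fun n => ?_).symm
  obtain ⟨l⟩ := PnCoh.exists_linearEquiv_push k i hi hM n
  rw [l.finrank_eq]

theorem euler_pullback_of_isIso {A B : Scheme.{u}} [A.Over (Spec (CommRingCat.of k))]
    [B.Over (Spec (CommRingCat.of k))] [IsProper (B ↘ Spec (CommRingCat.of k))] (e : A ⟶ B) [IsIso e]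
    (he : e ≫ (B ↘ Spec (CommRingCat.of k)) = A ↘ Spec (CommRingCat.of k)) {P : B.Modules} (hP : Coh.IsQCoh P) :
    Curv2.euler k A ((Scheme.Modules.pullback e).obj P) = Curv2.euler k B P := by
  have hk : KZ.ClosedDev.Killed e P := fun W a ha s => by
    rw [Scheme.Hom.ker_apply] at ha
    haveI : IsIso (e.app W.1) := inferInstance
    rw [(ConcreteCategory.bijective_of_isIso (e.app W.1)).1 ((RingHom.mem_ker.1 ha).trans (map_zero _).symm),
      zero_smul]
  haveI := (QCoh.isIso_unit_closed_iff e hP).2 hk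
  rw [← euler_push' e he (QCoh.isQCoh_pullback e hP)]
  exact (Euler.euler_congr k (asIso ((Scheme.Modules.pullbackPushforwardAdjunction e).unit.app P))).symm

variable {X : Scheme.{u}} [IsNoetherian X] [AlgebraicGeometry.IsReduced X] [X.Over (Spec (CommRingCat.of k))]
  [IsProper (X ↘ Spec (CommRingCat.of k))]
  {Y : Set X} (hY : IsClosed Y)

theorem rBeta_push (T : Set (VecSt.subsch X Y hY)) (hT : IsClosed T)
    (hT' : IsClosed (VecSt.subschι X Y hY '' T)) {E : X.Modules} {r : ℕ}
    (hE : Coh.IsQCoh E) {H : (VecSt.subsch X Y hY).Modules} (hH : Coh.IsQCoh H) :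
    TFOne.rBeta X k (X ↘ Spec (CommRingCat.of k)) (VecSt.subschι X Y hY '' T) hT' E r
        ((Coh.push (VecSt.subschι X Y hY)).obj H) =
      TFOne.rBeta (VecSt.subsch X Y hY) k (VecSt.subschι X Y hY ≫ (X ↘ Spec (CommRingCat.of k))) T hT
        ((Scheme.Modules.pullback (VecSt.subschι X Y hY)).obj E) r H := by
  let ι := VecSt.subschι X Y hY
  letI : (VecSt.subsch X Y hY).Over (Spec (CommRingCat.of k)) := ⟨ι ≫ (X ↘ Spec (CommRingCat.of k))⟩
  let A := VecSt.subsch (VecSt.subsch X Y hY) T hT
  let ιA := VecSt.subschι (VecSt.subsch X Y hY) T hT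
  let B := VecSt.subsch X (ι '' T) hT'
  let ιB := VecSt.subschι X (ι '' T) hT'
  letI : A.Over (Spec (CommRingCat.of k)) := ⟨ιA ≫ ι ≫ (X ↘ Spec (CommRingCat.of k))⟩
  letI : B.Over (Spec (CommRingCat.of k)) := ⟨ιB ≫ (X ↘ Spec (CommRingCat.of k))⟩
  haveI : IsProper (A ↘ Spec (CommRingCat.of k)) := show IsProper (ιA ≫ ι ≫ _) from inferInstance
  haveI : IsProper (B ↘ Spec (CommRingCat.of k)) := show IsProper (ιB ≫ _) from inferInstance
  haveI : AlgebraicGeometry.IsReduced A := isReduced_subsch (X := VecSt.subsch X Y hY) T hT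
  haveI : AlgebraicGeometry.IsReduced B := isReduced_subsch (ι '' T) hT'
  have hrA : Set.range (ιA ≫ ι) = ι '' T := by
    refine Eq.trans ?_ (congrArg (ι '' ·) (range_subschι (X := VecSt.subsch X Y hY) T hT))
    exact Set.range_comp ι ιA
  have hrB : Set.range ιB = ι '' T := range_subschι _ hT'
  obtain ⟨e, he⟩ := H23.RedSub.exists_lift_closed (ιA ≫ ι) ιB (hrA.trans hrB.symm).subset
  obtain ⟨e', he'⟩ := H23.RedSub.exists_lift_closed ιB (ιA ≫ ι) (hrA.trans hrB.symm).symm.subset
  haveI : IsIso e := ⟨e', by rw [← cancel_mono (ιA ≫ ι), Category.assoc, he', he, Category.id_comp],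
    by rw [← cancel_mono ιB, Category.assoc, he, he', Category.id_comp]⟩
  have hk : e ≫ (B ↘ Spec (CommRingCat.of k)) = A ↘ Spec (CommRingCat.of k) := by
    show e ≫ ιB ≫ _ = ιA ≫ ι ≫ _
    rw [reassoc_of% he]
  have hEB : Coh.IsQCoh ((Scheme.Modules.pullback ιB).obj E) := QCoh.isQCoh_pullback ιB hE
  let j : (Scheme.Modules.pullback ιA).obj ((Scheme.Modules.pullback ι).obj E) ≅
      (Scheme.Modules.pullback e).obj ((Scheme.Modules.pullback ιB).obj E) :=
    (Scheme.Modules.pullbackComp ιA ι).app E ≪≫ (Scheme.Modules.pullbackCongr he.symm).app E ≪≫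
      ((Scheme.Modules.pullbackComp e ιB).app E).symm
  obtain ⟨o⟩ := PicClLib.nonempty_pullback_structureModule e
  show (r : ℤ) * Curv2.euler k X ((Coh.push ι).obj H) +
      (Curv2.euler k B ((Scheme.Modules.pullback ιB).obj E) - (r : ℤ) * Curv2.euler k B (Coh.structureModule B)) =
    (r : ℤ) * Curv2.euler k (VecSt.subsch X Y hY) H +
      (Curv2.euler k A ((Scheme.Modules.pullback ιA).obj ((Scheme.Modules.pullback ι).obj E)) -
        (r : ℤ) * Curv2.euler k A (Coh.structureModule A))
  rw [euler_push' ι rfl hH, Euler.euler_congr k j, euler_pullback_of_isIso e hk hEB,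
    ← Euler.euler_congr k o, euler_pullback_of_isIso e hk QCoh.isQCoh_structureModule]

end Groth.Agent.TFOneX
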