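import Groth.Agent.TFOneX.TowerQuot
import Groth.Agent.S0004
import Groth.Agent.GenQuot5.Basic

/-!
Algebraising the quotients of a decomposed tower.
-/

set_option autoImplicit false
set_option linter.style.haveILetI false
set_option linter.unusedSectionVars false
set_option backward.isDefEq.respectTransparency false
set_option backward.isDefEq.respectTransparency.types false
set_option maxHeartbeats 1000000

universe u

open CategoryTheory CategoryTheory.Limits AlgebraicGeometry TopologicalSpace Opposite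

noncomputable section

namespace Groth.Agent.TFOneX

variable {R : Type u} [CommRing R] [IsDomain R] [IsDiscreteValuationRing R]
  {X : Scheme.{u}} [X.Over (Spec (CommRingCat.of R))] {ϖ : R}
  (hϖ : IsLocalRing.maximalIdeal R = Ideal.span {ϖ})

include hϖ in
theorem smulMod_comp_of_mem_pow {M N : X.Modules} (g : M ⟶ N) {m : ℕ}
    (h : Formal.smulMod R M (ϖ ^ m) ≫ g = 0) {a : R} (ha : a ∈ IsLocalRing.maximalIdeal R ^ m) :
    Formal.smulMod R M a ≫ g = 0 := by
  rw [hϖ, Ideal.span_singleton_pow, Ideal.mem_span_singleton] at ha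
  obtain ⟨b, rfl⟩ := ha
  rw [FFun.smulMod_mul, Category.assoc, h, comp_zero]

theorem mono_smulMod_of_ne_zero {M : X.Modules} (hirr : Irreducible ϖ) (h : Mono (Formal.smulMod R M ϖ)) {a : R}
    (ha : a ≠ 0) : Mono (Formal.smulMod R M a) := by
  obtain ⟨m, u, rfl⟩ := IsDiscreteValuationRing.eq_unit_mul_pow_irreducible ha hirr
  have hpow : ∀ m : ℕ, Mono (Formal.smulMod R M (ϖ ^ m)) := fun m => by
    induction m with
    | zero => rw [pow_zero, FFun.smulMod_one]; infer_instance
    | succ m ih =>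
      rw [pow_succ, FFun.smulMod_mul]
      haveI := h
      haveI := ih
      exact mono_comp _ _
  haveI : Mono (Formal.smulMod R M (u : R)) := by
    haveI : IsIso (Formal.smulMod R M (u : R)) :=
      ⟨Formal.smulMod R M (↑u⁻¹ : R), by rw [← FFun.smulMod_mul, Units.inv_mul, FFun.smulMod_one],
        by rw [← FFun.smulMod_mul, Units.mul_inv, FFun.smulMod_one]⟩
    infer_instance
  haveI := hpow m
  rw [FFun.smulMod_mul]
  exact mono_comp _ _

theorem smulMod_germ (M : X.Modules) (c : R) (x : X) (a : M.presheaf.stalk x) :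
    sm (Formal.smulMod R M c) x a =
      X.presheaf.germ ⊤ x trivial (Coh.toGlobal (X ↘ Spec (CommRingCat.of R)) c) • a := by
  obtain ⟨U, hxU, s, rfl⟩ := TopCat.Presheaf.exists_germ_eq M.presheaf a
  refine (DerSch.stalkFunctor_map_germ x _ U hxU s).trans ?_
  rw [FFun.smulMod_app]
  refine (QCoh.germ_smul' M hxU _ _).trans (congrArg (· • _) ?_)
  exact X.presheaf.germ_res_apply (homOfLE le_top) x hxU _

/-- A module on which the uniformiser is injective is flat. -/
theorem isFlatOver_of_mono (hirr : Irreducible ϖ) {M : X.Modules} (h : Mono (Formal.smulMod R M ϖ)) :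
    FlatMod.IsFlatOver (X ↘ Spec (CommRingCat.of R)) M := by
  let f := X ↘ Spec (CommRingCat.of R)
  haveI : IsDomain (CommRingCat.of R) := inferInstanceAs (IsDomain R)
  haveI : IsIntegral (Spec (CommRingCat.of R)) := inferInstance
  refine fun x => GenQuot5.isFlatOverAt_of_torsionFree (fun y => ?_) f M x fun t g ht hg => ?_
  · letI : Algebra R ((Spec (CommRingCat.of R)).presheaf.stalk y) :=
      StructureSheaf.stalkAlgebra (R := R) y
    haveI : IsLocalization.AtPrime ((Spec (CommRingCat.of R)).presheaf.stalk y) y.asIdeal :=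
      StructureSheaf.IsLocalization.to_stalk R y
    refine ⟨IsRegularLocalRing.of_ringEquiv
      (IsLocalization.algEquiv y.asIdeal.primeCompl (Localization.AtPrime y.asIdeal) _).toRingEquiv, ?_⟩
    exact (SchTop.ringKrullDim_stalk_le y).trans ((PrimeSpectrum.topologicalKrullDim_eq_ringKrullDim (R := R)).trans_le
      (IsPrincipalIdealRing.ringKrullDim_eq_one R (IsDiscreteValuationRing.not_isField R)).le)
  · letI : Algebra R ((Spec (CommRingCat.of R)).presheaf.stalk (f x)) :=
      StructureSheaf.stalkAlgebra (R := R) (f x)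
    haveI : IsLocalization.AtPrime ((Spec (CommRingCat.of R)).presheaf.stalk (f x)) (f x).asIdeal :=
      StructureSheaf.IsLocalization.to_stalk R (f x)
    obtain ⟨⟨a, s⟩, has⟩ := IsLocalization.surj (f x).asIdeal.primeCompl t
    have ha : a ≠ 0 := fun h0 => ht ((IsLocalization.map_units _ s).mul_left_eq_zero.1 (by
      rw [has]
      exact (congrArg _ h0).trans (map_zero _)))
    haveI := mono_smulMod_of_ne_zero hirr h ha
    refine injective_sm (Formal.smulMod R M a) x ?_
    rw [map_zero, smulMod_germ]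
    have e : X.presheaf.germ ⊤ x trivial (Coh.toGlobal f a) = (f.stalkMap x).hom (algebraMap R _ a) := by
      refine ((Scheme.Hom.germ_stalkMap_apply f ⊤ x trivial _).symm).trans ?_
      rfl
    rw [e, ← has, map_mul, mul_comm, mul_smul, hg, smul_zero]

variable [IsProper (X ↘ Spec (CommRingCat.of R))]

include hϖ in
/-- A coherent module with no special fibre is zero. -/
theorem isZero_of_epi_smulMod {C : X.Modules} (hC : Coh.IsCoh C) (h : Epi (Formal.smulMod R C ϖ)) :
    IsZero C := by
  let f := X ↘ Spec (CommRingCat.of R)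
  haveI : IsLocallyNoetherian X := LocallyOfFiniteType.isLocallyNoetherian f
  refine CurveCohLib.isZero_of_subsingleton_stalks fun x => ?_
  by_contra hx
  obtain ⟨b, hxb, hb⟩ : ∃ b, x ⤳ b ∧ f b = IsLocalRing.closedPoint R :=
    f.isClosedMap.specializingMap (IsLocalRing.specializes_closedPoint (f x))
  have hb' : b ∈ CohB1.support C := hxb.mem_closed (QCoh.isClosed_support_of_isFT hC.1 hC.2) hx
  haveI := QCoh.finite_stalk_of_isFT hC.1 hC.2 b
  have hmem : X.presheaf.germ ⊤ b trivial (Coh.toGlobal f ϖ) ∈ IsLocalRing.maximalIdeal (X.presheaf.stalk b) := by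
    rw [IsLocalRing.mem_maximalIdeal, mem_nonunits_iff, show X.presheaf.germ ⊤ b trivial (Coh.toGlobal f ϖ) =
      (f.stalkMap b).hom ((Spec (CommRingCat.of R)).presheaf.germ ⊤ (f b) trivial
        ((Scheme.ΓSpecIso (CommRingCat.of R)).inv ϖ)) from (Scheme.Hom.germ_stalkMap_apply f ⊤ b trivial _).symm]
    intro hu
    have hu' := isUnit_of_map_unit (f.stalkMap b).hom _ hu
    letI : Algebra R ((Spec (CommRingCat.of R)).presheaf.stalk (f b)) :=
      StructureSheaf.stalkAlgebra (R := R) (f b)
    haveI : IsLocalization.AtPrime ((Spec (CommRingCat.of R)).presheaf.stalk (f b)) (f b).asIdeal :=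
      StructureSheaf.IsLocalization.to_stalk R (f b)
    have hmem' := (IsLocalization.AtPrime.isUnit_to_map_iff ((Spec (CommRingCat.of R)).presheaf.stalk (f b))
      (f b).asIdeal ϖ).1 hu'
    refine hmem' ?_
    rw [show (f b).asIdeal = IsLocalRing.maximalIdeal R from congrArg PrimeSpectrum.asIdeal hb, hϖ]
    exact Ideal.mem_span_singleton_self ϖ
  refine hb' ?_
  show Subsingleton (C.presheaf.stalk b)
  haveI := h
  refine (Submodule.subsingleton_iff (X.presheaf.stalk b)).1 (subsingleton_of_bot_eq_top ?_)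
  refine (Submodule.eq_bot_of_le_smul_of_le_jacobson_bot (IsLocalRing.maximalIdeal (X.presheaf.stalk b)) _
    (Module.finite_def.1 inferInstance) (fun c _ => ?_) (IsLocalRing.jacobson_eq_maximalIdeal ⊥ bot_ne_top).ge).symm
  obtain ⟨d, rfl⟩ := surjective_sm (Formal.smulMod R C ϖ) b c
  rw [smulMod_germ]
  exact Submodule.smul_mem_smul hmem Submodule.mem_top

variable [IsAdicComplete (IsLocalRing.maximalIdeal R) R]
  {Xs : Scheme.{u}} {i : Xs ⟶ X} [IsClosedImmersion i] {In : ℕ → X.Modules} {G : ℕ → Xs.Modules}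
  {π : ∀ n : ℕ, (Scheme.Modules.pullback i).obj (In n) ⟶ G n}
  {j : ∀ n, In (n + 1) ⟶ In n} {θ : ∀ n, In n ⟶ In (n + 1)}

include hϖ in
/-- The system of quotients by the stages comes from a flat quotient of the first stage. -/
theorem exists_limit (hirr : Irreducible ϖ) (hIc : ∀ n, Coh.IsCoh (In n)) (hj : ∀ n, Mono (j n))
    (hπ : ∀ n, Epi (π n)) (hθ : ∀ n, θ n ≫ j n = Formal.smulMod R (In n) ϖ) (hzero : ∀ n, j n ≫ stageπ π n = 0)
    (hlift : ∀ n {T : X.Modules} (g : T ⟶ In n), g ≫ stageπ π n = 0 → ∃ g' : T ⟶ In (n + 1), g' ≫ j n = g)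
    {e : ∀ n, G n ⟶ G (n + 1)} (hiso : ∀ n, IsIso (e n))
    (he : ∀ n, (Scheme.Modules.pullback i).map (θ n) ≫ π (n + 1) = π n ≫ e n) :
    ∃ (F : X.Modules) (p : In 0 ⟶ F), Coh.IsCoh F ∧ Epi p ∧
      FlatMod.IsFlatOver (X ↘ Spec (CommRingCat.of R)) F ∧
      ∃ q : F ⟶ (Scheme.Modules.pushforward i).obj (G 0), p ≫ q = stageπ π 0 ∧
        Epi q ∧ kernel.ι q ≫ cokernel.π (Formal.smulMod R F ϖ) = 0 := by
  haveI : IsLocallyNoetherian X := LocallyOfFiniteType.isLocallyNoetherian (X ↘ Spec (CommRingCat.of R))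
  set I := IsLocalRing.maximalIdeal R
  haveI : ∀ (m : ℕ) (M : X.Modules), Epi (Formal.modPowπ I m M) := fun m M =>
    inferInstanceAs (Epi (cokernel.π (Formal.smulFamily (I ^ m) M)))
  let q : ∀ n, In 0 ⟶ cokernel (incl j (n + 1)) := fun n => cokernel.π _
  let tr : ∀ n, cokernel (incl j (n + 1 + 1)) ⟶ cokernel (incl j (n + 1)) := fun n =>
    cokernel.desc _ (q n) (by
      show (j (n + 1) ≫ incl j (n + 1)) ≫ _ = 0
      rw [Category.assoc, cokernel.condition, comp_zero])
  let Q : ℕᵒᵖ ⥤ X.Modules := Functor.ofOpSequence (X := fun n => cokernel (incl j (n + 1))) tr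
  have hqtr : ∀ n, q (n + 1) ≫ tr n = q n := fun n => cokernel.π_desc _ _ _
  have hpow : ∀ n, Formal.smulMod R (In 0) (ϖ ^ (n + 1)) ≫ q n = 0 := fun n => by
    rw [← powMap_incl hθ, Category.assoc, cokernel.condition, comp_zero]
  have hkill : ∀ n, Formal.KilledBy (I ^ (n + 1)) (cokernel (incl j (n + 1))) := fun n a ha => by
    rw [← cancel_epi (q n), comp_zero, ← FFun.smulMod_naturality]
    exact smulMod_comp_of_mem_pow hϖ _ (hpow n) ha
  have hQc : ∀ n, Coh.IsCoh (cokernel (incl j (n + 1))) := fun n =>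
    QCoh.isCoh_cokernel (hIc (n + 1)).1 (hIc 0) _
  have hmap : ∀ n, Q.map (homOfLE (Nat.le_succ n)).op = tr n := fun n =>
    Functor.ofOpSequence_map_homOfLE_succ (X := fun n => cokernel (incl j (n + 1))) tr n
  have hQ : Formal.IsCohFormal I Q := by
    refine ⟨hQc, hkill, fun n => ?_⟩
    have h0 : Formal.smulFamily (I ^ (n + 1)) (Q.obj (op (n + 1))) ≫ Q.map (homOfLE (Nat.le_succ n)).op = 0 :=
      Algz7.smulFamily_comp_eq_zero (hkill n) _
    refine ⟨h0, ?_⟩
    -- the inverse
    let c := cokernel.π (Formal.smulFamily (I ^ (n + 1)) (Q.obj (op (n + 1))))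
    have hsm : ∀ a ∈ I ^ (n + 1), Formal.smulMod R (cokernel (incl j (n + 1 + 1))) a ≫ c = 0 := fun a ha => by
      have h := congrArg (fun φ => Limits.Sigma.ι (fun _ : ↥(I ^ (n + 1)) => Q.obj (op (n + 1))) ⟨a, ha⟩ ≫ φ)
        (cokernel.condition (Formal.smulFamily (I ^ (n + 1)) (Q.obj (op (n + 1)))))
      simp only [Formal.smulFamily, Sigma.ι_desc_assoc, comp_zero] at h
      exact h
    have hd : incl j (n + 1) ≫ q (n + 1) ≫ c = 0 := by
      refine eq_zero_of_gen hIc hπ hlift hiso he (n + 1) _ ?_ ?_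
      · rw [← Category.assoc, ← Category.assoc]
        show ((incl j (n + 1 + 1)) ≫ q (n + 1)) ≫ c = 0
        rw [cokernel.condition, zero_comp]
      · rw [← Category.assoc, powMap_incl hθ, ← Category.assoc, FFun.smulMod_naturality, Category.assoc,
          hsm _ (Ideal.pow_mem_pow (by rw [show I = _ from hϖ]; exact Ideal.mem_span_singleton_self ϖ) _), comp_zero]
    let g : cokernel (incl j (n + 1)) ⟶ cokernel (Formal.smulFamily (I ^ (n + 1)) (Q.obj (op (n + 1)))) :=
      cokernel.desc _ (q (n + 1) ≫ c) hd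
    have hg : tr n ≫ g = c := by
      rw [← cancel_epi (q (n + 1)), ← Category.assoc, hqtr]
      exact cokernel.π_desc _ _ _
    refine ⟨g, ?_, ?_⟩
    · rw [← cancel_epi c, ← Category.assoc, cokernel.π_desc, hmap]
      exact hg.trans (Category.comp_id _).symm
    · rw [← cancel_epi (q n), ← Category.assoc, cokernel.π_desc, Category.assoc, cokernel.π_desc, hmap]
      exact (hqtr n).trans (Category.comp_id _).symm
  obtain ⟨hff, hes⟩ := S0004.result R I X
  obtain ⟨F, hF, ⟨ε⟩⟩ := hes Q hQ
  have hkey : ∀ n, Formal.smulFamily (I ^ (n + 1)) (In 0) ≫ q n = 0 :=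
    fun n => Algz7.smulFamily_comp_eq_zero (hkill n) _
  let ψ₀ : Formal.completion I (In 0) ⟶ Q := NatTrans.ofOpSequence
    (fun n => cokernel.desc _ (q n) (hkey n)) (fun n => by
      rw [hmap, show (Formal.completion I (In 0)).map (homOfLE (Nat.le_add_right n 1)).op =
        Formal.modPowTrans I (n + 1) (In 0) from Functor.ofOpSequence_map_homOfLE_succ _ n]
      refine (cancel_epi (Formal.modPowπ I (n + 1 + 1) (In 0))).1 ?_
      rw [← Category.assoc, ← Category.assoc, Formal.modPowπ_trans]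
      refine (cokernel.π_desc _ _ _).trans ?_
      refine Eq.trans ?_ (congrArg (· ≫ tr n) (cokernel.π_desc _ _ _)).symm
      exact (hqtr n).symm)
  obtain ⟨p, hp, -⟩ := hff (In 0) F (hIc 0) hF (ψ₀ ≫ ε.inv)
  let E : ∀ n, F ⟶ cokernel (incl j (n + 1)) := fun n => Formal.modPowπ I (n + 1) F ≫ ε.hom.app (op n)
  have hpE : ∀ n, p ≫ E n = q n := fun n => by
    have h := hp n
    rw [← Category.assoc, ← h]
    simp only [Category.assoc, NatTrans.comp_app]
    erw [Iso.inv_hom_id_app, Category.comp_id]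
    exact cokernel.π_desc _ _ _
  have hEtr : ∀ n, E (n + 1) ≫ tr n = E n := fun n => by
    show (_ ≫ ε.hom.app (op (n + 1))) ≫ tr n = _
    rw [Category.assoc, ← hmap, ← ε.hom.naturality, show (Formal.completion I F).map (homOfLE (Nat.le_succ n)).op =
      Formal.modPowTrans I (n + 1) F from Functor.ofOpSequence_map_homOfLE_succ _ n, ← Category.assoc,
      Formal.modPowπ_trans]
  haveI : ∀ n, IsIso (ε.hom.app (op n)) := fun n => inferInstance
  -- surjectivity
  haveI : Epi p := by
    refine Abelian.epi_of_cokernel_π_eq_zero _ ?_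
    have hc : IsZero (cokernel p) := by
      refine isZero_of_epi_smulMod hϖ (QCoh.isCoh_cokernel (hIc 0).1 hF p) ?_
      refine Preadditive.epi_of_cancel_zero _ fun {T} g hg => ?_
      have hkf : Formal.smulFamily (I ^ 1) F ≫ cokernel.π p ≫ g = 0 := by
        refine Limits.Sigma.hom_ext _ _ fun a => ?_
        rw [comp_zero, ← Category.assoc, Formal.smulFamily, Sigma.ι_desc, ← Category.assoc, FFun.smulMod_naturality,
          Category.assoc]
        have ha := a.2
        rw [smulMod_comp_of_mem_pow hϖ (m := 1) g (by rw [pow_one]; exact hg) ha, comp_zero]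
      let g₁ : Formal.modPow I 1 F ⟶ T := cokernel.desc _ (cokernel.π p ≫ g) hkf
      have hg₁ : Formal.modPowπ I 1 F ≫ g₁ = cokernel.π p ≫ g := cokernel.π_desc _ _ _
      have h2 : q 0 ≫ inv (ε.hom.app (op 0)) ≫ g₁ = 0 := by
        rw [← hpE 0]
        show (p ≫ Formal.modPowπ I 1 F ≫ ε.hom.app (op 0)) ≫ _ = 0
        simp only [Category.assoc, IsIso.hom_inv_id_assoc]
        rw [hg₁, ← Category.assoc, cokernel.condition, zero_comp]
      have h3 : g₁ = 0 := by
        have h4 := zero_of_epi_comp (q 0) h2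
        exact zero_of_epi_comp _ h4
      rw [← cancel_epi (cokernel.π p), ← hg₁, h3, comp_zero, comp_zero]
    exact hc.eq_of_tgt _ _
  -- flatness
  have hflat : Mono (Formal.smulMod R F ϖ) := by
    refine Preadditive.mono_of_kernel_zero ?_
    set k := kernel.ι (Formal.smulMod R F ϖ)
    have hT : Coh.IsCoh (kernel (Formal.smulMod R F ϖ)) := QCoh.isCoh_kernel hF hF _
    have hzero' : ∀ n, k ≫ E n = 0 := fun n => by
      have h1 : (k ≫ E (n + 1)) ≫ Formal.smulMod R _ ϖ = 0 := by
        rw [Category.assoc, ← FFun.smulMod_naturality, ← Category.assoc, kernel.condition, zero_comp]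
      rw [← hEtr, ← Category.assoc]
      obtain ⟨P, b, hb, x, hx⟩ := surjective_up_to_refinements_of_epi (q (n + 1)) (k ≫ E (n + 1))
      haveI := hb
      rw [← cancel_epi b, comp_zero, ← Category.assoc, hx, Category.assoc, hqtr]
      have h2 : (x ≫ Formal.smulMod R (In 0) ϖ) ≫ q (n + 1) = 0 := by
        rw [Category.assoc, FFun.smulMod_naturality, ← Category.assoc, ← hx, Category.assoc, h1, comp_zero]
      haveI := mono_incl hj (n + 1 + 1)
      obtain ⟨x', hx'⟩ := exists_div hj hθ hzero hlift hiso he (n + 1) x (Abelian.monoLift _ _ h2)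
        (Abelian.monoLift_comp _ _ _).symm
      rw [← hx', Category.assoc, cokernel.condition, comp_zero]
    obtain ⟨φ, -, huniq⟩ := hff _ F hT hF 0
    refine (huniq k fun n => ?_).trans (huniq 0 fun n => ?_).symm
    · rw [show ((0 : Formal.completion I (kernel (Formal.smulMod R F ϖ)) ⟶ Formal.completion I F)).app (op n) = 0
        from rfl, comp_zero]
      have := hzero' n
      rw [← Category.assoc, ← cancel_mono (ε.hom.app (op n)), zero_comp] at *
      exact this.symm
    · simp
  refine ⟨F, p, hF, inferInstance, isFlatOver_of_mono hirr hflat, ?_⟩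
  -- the special fibre
  haveI := hπ 0
  haveI := epi_unit i (hIc 0).1
  haveI := epi_push i (π 0)
  haveI : Epi (stageπ π 0) := epi_comp _ _
  have h0 : incl j 1 ≫ stageπ π 0 = 0 := by
    show (j 0 ≫ 𝟙 _) ≫ _ = 0
    rw [Category.comp_id, hzero]
  let d : cokernel (incl j 1) ⟶ (Scheme.Modules.pushforward i).obj (G 0) := cokernel.desc _ _ h0
  haveI : IsIso d := by
    obtain ⟨l, hl⟩ := hlift 0 (kernel.ι (stageπ π 0)) (kernel.condition _)
    have hl' : kernel.ι (stageπ π 0) ≫ q 0 = 0 := by
      rw [← hl, Category.assoc]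
      show l ≫ j 0 ≫ q 0 = 0
      rw [← Category.comp_id (j 0)]
      show l ≫ incl j 1 ≫ q 0 = 0
      rw [cokernel.condition, comp_zero]
    refine ⟨Abelian.epiDesc _ (q 0) hl', ?_, ?_⟩
    · rw [← cancel_epi (q 0), ← Category.assoc, cokernel.π_desc, Abelian.comp_epiDesc, Category.comp_id]
    · rw [← cancel_epi (stageπ π 0), ← Category.assoc, Abelian.comp_epiDesc, cokernel.π_desc, Category.comp_id]
  refine ⟨E 0 ≫ d, ?_, ?_, ?_⟩
  · rw [← Category.assoc, hpE]
    exact cokernel.π_desc _ _ _
  · have : Epi (p ≫ E 0 ≫ d) := by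
      rw [← Category.assoc, hpE, show q 0 ≫ d = stageπ π 0 from cokernel.π_desc _ _ _]
      infer_instance
    exact epi_of_epi p _
  · have hk : kernel.ι (E 0 ≫ d) ≫ Formal.modPowπ I 1 F = 0 := by
      refine zero_of_comp_mono (ε.hom.app (op 0) ≫ d) ?_
      refine Eq.trans ?_ (kernel.condition (E 0 ≫ d))
      show _ = kernel.ι (E 0 ≫ d) ≫ (Formal.modPowπ I (0 + 1) F ≫ ε.hom.app (op 0)) ≫ d
      simp only [Category.assoc]
    have hle : Formal.smulFamily (I ^ 1) F ≫ cokernel.π (Formal.smulMod R F ϖ) = 0 := by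
      refine Limits.Sigma.hom_ext _ _ fun a => ?_
      rw [comp_zero, ← Category.assoc, Formal.smulFamily, Sigma.ι_desc]
      exact smulMod_comp_of_mem_pow hϖ _ (by rw [pow_one]; exact cokernel.condition _) a.2
    rw [show cokernel.π (Formal.smulMod R F ϖ) = Formal.modPowπ I 1 F ≫ cokernel.desc _ _ hle from
      (cokernel.π_desc _ _ _).symm, ← Category.assoc, hk, zero_comp]

end Groth.Agent.TFOneX
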