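import Groth.Agent.TFOneX.Basic
import Groth.Agent.FFun.Basic
import Mathlib

/-!
Endomorphisms of torsion-free rank-one modules act by scalars at the generic points of geometrically
integral components of a proper scheme over a field.
-/

set_option autoImplicit false
set_option linter.style.haveILetI false
set_option linter.unusedSectionVars false
set_option backward.isDefEq.respectTransparency false
set_option backward.isDefEq.respectTransparency.types false

universe u

open CategoryTheory CategoryTheory.Limits AlgebraicGeometry TopologicalSpace Opposite Polynomial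

namespace Groth.Agent.TFOneX

variable {X : Scheme.{u}}

/-- Generisation of germs of a module. -/
noncomputable abbrev spc (M : X.Modules) {x η : X} (h : η ⤳ x) :
    M.presheaf.stalk x → M.presheaf.stalk η :=
  fun m => M.presheaf.stalkSpecializes h m

theorem spc_smul (M : X.Modules) {x η : X} (h : η ⤳ x) (r : X.presheaf.stalk x) (m : M.presheaf.stalk x) :
    spc M h (r • m) = (X.presheaf.stalkSpecializes h).hom r • spc M h m := by
  obtain ⟨U, hxU, r, rfl⟩ := TopCat.Presheaf.exists_germ_eq X.presheaf r
  obtain ⟨V, hxV, m, rfl⟩ := TopCat.Presheaf.exists_germ_eq M.presheaf m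
  have hx : x ∈ U ⊓ V := ⟨hxU, hxV⟩
  rw [← X.presheaf.germ_res_apply (homOfLE (inf_le_left : U ⊓ V ≤ U)) x hx r,
    ← M.presheaf.germ_res_apply (homOfLE (inf_le_right : U ⊓ V ≤ V)) x hx m, ← QCoh.germ_smul']
  simp only [spc, TopCat.Presheaf.germ_stalkSpecializes_apply]
  rw [QCoh.germ_smul']

theorem spc_sm {M N : X.Modules} (φ : M ⟶ N) {x η : X} (h : η ⤳ x) (m : M.presheaf.stalk x) :
    spc N h (sm φ x m) = sm φ η (spc M h m) := by
  obtain ⟨V, hxV, m, rfl⟩ := TopCat.Presheaf.exists_germ_eq M.presheaf m
  refine (congrArg (spc N h) (DerSch.stalkFunctor_map_germ x φ V hxV m)).trans ?_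
  refine (TopCat.Presheaf.germ_stalkSpecializes_apply N.presheaf hxV h (φ.app V m)).trans ?_
  refine (DerSch.stalkFunctor_map_germ η φ V (h.mem_open V.2 hxV) m).symm.trans ?_
  exact congrArg (sm φ η) (TopCat.Presheaf.germ_stalkSpecializes_apply M.presheaf hxV h m).symm

variable (k : Type u) [Field k] [X.Over (Spec (CommRingCat.of k))]

theorem smulMod_sm (M : X.Modules) (c : k) (x : X) (a : M.presheaf.stalk x) :
    sm (Formal.smulMod k M c) x a = Curv2.stalkMap k X x c • a := by
  obtain ⟨U, hxU, s, rfl⟩ := TopCat.Presheaf.exists_germ_eq M.presheaf a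
  refine (DerSch.stalkFunctor_map_germ x _ U hxU s).trans ?_
  rw [FFun.smulMod_app]
  refine (QCoh.germ_smul' M hxU _ _).trans (congrArg (· • _) ?_)
  exact X.presheaf.germ_res_apply (homOfLE le_top) x hxU _

theorem stalkMap_specializes {x η : X} (h : η ⤳ x) (c : k) :
    (X.presheaf.stalkSpecializes h).hom (Curv2.stalkMap k X x c) = Curv2.stalkMap k X η c :=
  TopCat.Presheaf.germ_stalkSpecializes_apply X.presheaf (U := ⊤) trivial h
    (Coh.toGlobal (X ↘ Spec (CommRingCat.of k)) c)

/-- A nonzero element of a stalk is not killed by a nonzero scalar. -/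
theorem eq_of_smul_eq {M : X.Modules} {x : X} {c c' : k} {a : M.presheaf.stalk x} (ha : a ≠ 0)
    (h : Curv2.stalkMap k X x c • a = Curv2.stalkMap k X x c' • a) : c = c' := by
  by_contra hne
  have hu : IsUnit (Curv2.stalkMap k X x (c - c')) :=
    (isUnit_iff_ne_zero.2 (sub_ne_zero.2 hne)).map _
  refine ha (hu.smul_eq_zero.1 ?_)
  rw [map_sub, sub_smul, h, sub_self]

/-- An element of a field lying in every valuation subring over a subfield is integral over it. -/
theorem isIntegral_of_forall_valuationSubring {K : Type u} [Field K] [Algebra k K] (a : K)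
    (h : ∀ V : ValuationSubring K, (∀ c, algebraMap k K c ∈ V) → a ∈ V) : IsIntegral k a := by
  by_contra hna
  let R : Subring K := (integralClosure k K).toSubring
  haveI : IsIntegrallyClosedIn R K := by
    refine Subring.isIntegrallyClosedIn_iff.2 fun {x} hx => ?_
    haveI : Algebra.IsIntegral k (integralClosure k K) := integralClosure.AlgebraIsIntegral
    exact isIntegral_trans (R := k) (A := integralClosure k K) x hx
  obtain ⟨V, hV, haV⟩ :=
    Subring.exists_le_valuationSubring_of_isIntegrallyClosedIn (R := R) (x := a) hna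
  exact haV (h V fun c => hV (algebraMap_mem (integralClosure k K) c))

variable [IsProper (X ↘ Spec (CommRingCat.of k))]

/-- The generalised valuative criterion: a valuation ring of a residue field has a centre. -/
theorem exists_centre {K : Type u} [Field K] (i : Spec (CommRingCat.of K) ⟶ X) (V : ValuationSubring K)
    (φ : k →+* K) (hφ : i ≫ (X ↘ Spec (CommRingCat.of k)) = Spec.map (CommRingCat.ofHom φ))
    (hV : ∀ c, φ c ∈ V) :
    ∃ l : Spec (CommRingCat.of V) ⟶ X, Spec.map (CommRingCat.ofHom V.subtype) ≫ l = i := by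
  have hE : ValuativeCriterion.Existence (X ↘ Spec (CommRingCat.of k)) :=
    (UniversallyClosed.eq_valuativeCriterion.le _ _ (X ↘ Spec (CommRingCat.of k)) inferInstance).1
  obtain ⟨l, hl, -⟩ := (hE
    { R := V, K := K, i₁ := i, i₂ := Spec.map (CommRingCat.ofHom (φ.codRestrict V.toSubring hV)),
      commSq := ⟨by
        rw [hφ, ← Spec.map_comp]
        rfl⟩ }).exists_lift
  exact ⟨l, hl⟩

theorem fromSpecStalk_over (w : X) :
    X.fromSpecStalk w ≫ (X ↘ Spec (CommRingCat.of k)) =
      Spec.map (CommRingCat.ofHom (Curv2.stalkMap k X w)) := by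
  have h1 : (X ↘ Spec (CommRingCat.of k)) = X.toSpecΓ ≫ Spec.map (X ↘ Spec (CommRingCat.of k)).appTop ≫
      Spec.map (Scheme.ΓSpecIso (CommRingCat.of k)).inv := by
    rw [← Scheme.toSpecΓ_naturality_assoc, ← SpecMap_ΓSpecIso_hom, ← Spec.map_comp, Iso.inv_hom_id,
      Spec.map_id, Category.comp_id]
  conv_lhs => rw [h1]
  rw [Scheme.fromSpecStalk_toSpecΓ_assoc, ← Spec.map_comp, ← Spec.map_comp]
  rfl

variable [AlgebraicGeometry.IsReduced X]

/-- The eigenvalue of an endomorphism at a generic point is integral over the base field. -/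
theorem isIntegral_eigen {M : X.Modules} (hM : Coh.IsCoh M) (φ : M ⟶ M) {η : X}
    (hη : η ∈ genericPoints (X : Type u)) (hne : η ∈ CohB1.support M) (a : X.presheaf.stalk η)
    (ha : ∀ v, sm φ η v = a • v) :
    letI : Algebra k (X.presheaf.stalk η) := (Curv2.stalkMap k X η).toAlgebra
    IsIntegral k a := by
  letI := (NormAmpleX.isField_stalk_of_generic hη).toField
  letI : Algebra k (X.presheaf.stalk η) := (Curv2.stalkMap k X η).toAlgebra
  refine isIntegral_of_forall_valuationSubring k a fun V hV => ?_
  obtain ⟨l, hl⟩ := exists_centre k (X.fromSpecStalk η) V (Curv2.stalkMap k X η)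
    (fromSpecStalk_over k η) hV
  let x : X := l (IsLocalRing.closedPoint V)
  have hs : η ⤳ x := by
    have h1 : l (Spec.map (CommRingCat.ofHom V.subtype) (IsLocalRing.closedPoint (X.presheaf.stalk η))) = η := by
      rw [← Scheme.Hom.comp_apply, hl]
      exact Scheme.fromSpecStalk_closedPoint
    have h2 : l (Spec.map (CommRingCat.ofHom V.subtype) (IsLocalRing.closedPoint (X.presheaf.stalk η))) ⤳ x :=
      (IsLocalRing.specializes_closedPoint _).map l.continuous
    rwa [h1] at h2
  let ρ := Scheme.stalkClosedPointTo l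
  have hρ : ρ ≫ CommRingCat.ofHom V.subtype = X.presheaf.stalkSpecializes hs := by
    refine Spec.map_injective ((cancel_mono (X.fromSpecStalk x)).mp ?_)
    rw [Scheme.SpecMap_stalkSpecializes_fromSpecStalk, Spec.map_comp, Category.assoc,
      Scheme.Spec_stalkClosedPointTo_fromSpecStalk]
    exact hl
  haveI : IsLocallyNoetherian X :=
    LocallyOfFiniteType.isLocallyNoetherian (X ↘ Spec (CommRingCat.of k))
  haveI : Module.Finite (X.presheaf.stalk x) ((DerSch.stalkFunctor X x).obj M) :=
    QCoh.finite_stalk_of_isFT hM.1 hM.2 x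
  obtain ⟨p, hp, hp0⟩ := Algebra.IsIntegral.isIntegral (R := X.presheaf.stalk x)
    (A := Module.End (X.presheaf.stalk x) ((DerSch.stalkFunctor X x).obj M)) (sm φ x)
  -- a section near `x` with nonzero germ at `η`
  obtain ⟨w, hw⟩ : ∃ w : M.presheaf.stalk x, spc M hs w ≠ 0 := by
    obtain ⟨_, ⟨U, hU, rfl⟩, hxU, -⟩ :=
      X.isBasis_affineOpens.exists_subset_of_mem_open (Set.mem_univ x) isOpen_univ
    have hηU : η ∈ U := hs.mem_open U.2 hxU
    by_contra hcon
    push Not at hcon
    refine hne ((QCoh.subsingleton_stalk_iff hM.1 hU hηU).2 fun m => ?_)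
    refine (QCoh.germ_eq_zero_iff hM.1 hU hηU m).1 ?_
    have := hcon (M.presheaf.germ U x hxU m)
    simp only [spc, TopCat.Presheaf.germ_stalkSpecializes_apply] at this
    exact this
  have hpow : ∀ n : ℕ, spc M hs (((sm φ x) ^ n) w) = a ^ n • spc M hs w := by
    intro n
    induction n with
    | zero => rw [pow_zero, pow_zero, one_smul]; rfl
    | succ n ih =>
      have h1 : ((sm φ x) ^ (n + 1)) w = sm φ x (((sm φ x) ^ n) w) := by rw [pow_succ']; rfl
      rw [h1, spc_sm φ hs, ih, ha, ← mul_smul, ← pow_succ']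
  let σ := (X.presheaf.stalkSpecializes hs).hom
  have heval : ∀ q : Polynomial (X.presheaf.stalk x),
      spc M hs ((Polynomial.aeval (R := X.presheaf.stalk x) (sm φ x) q) w) = q.eval₂ σ a • spc M hs w := by
    intro q
    induction q using Polynomial.induction_on' with
    | add q r hq hr =>
      rw [map_add, LinearMap.add_apply, Polynomial.eval₂_add, add_smul, ← hq, ← hr]
      exact map_add (M.presheaf.stalkSpecializes hs).hom _ _
    | monomial n r =>
      rw [Polynomial.aeval_monomial, Polynomial.eval₂_monomial, mul_smul, ← hpow, ← spc_smul]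
      rfl
  have hroot : p.eval₂ σ a = 0 := by
    have h0 := heval p
    rw [show Polynomial.aeval (R := X.presheaf.stalk x) (sm φ x) p = 0 from hp0, LinearMap.zero_apply] at h0
    have h1 : p.eval₂ σ a • spc M hs w = 0 := by
      rw [← h0]; exact map_zero (M.presheaf.stalkSpecializes hs).hom
    by_contra hc
    exact hw ((isUnit_iff_ne_zero.2 hc).smul_eq_zero.1 h1)
  have hint : IsIntegral V a := by
    refine ⟨p.map ρ.hom, hp.map _, ?_⟩
    rw [Polynomial.eval₂_map, show (algebraMap V (X.presheaf.stalk η)).comp ρ.hom = σ from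
      congrArg CommRingCat.Hom.hom hρ]
    exact hroot
  obtain ⟨b, hb⟩ := IsIntegrallyClosed.isIntegral_iff.1 hint
  rw [← hb]
  exact b.2

theorem exists_nbhd_component [IsNoetherian X] {η : X} (hη : η ∈ genericPoints (X : Type u)) :
    ∃ U : X.Opens, IsAffineOpen U ∧ η ∈ U ∧ (U : Set X) ⊆ closure {η} ∧
      ∀ η' ∈ genericPoints (X : Type u), η' ∈ U → η' = η := by
  let T : Set X := ⋃₀ (irreducibleComponents (X : Type u) \ {closure {η}})
  have hT : IsClosed T := by
    rw [show T = ⋃ C ∈ irreducibleComponents (X : Type u) \ {closure {η}}, C from Set.sUnion_eq_biUnion]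
    exact (TopologicalSpace.NoetherianSpace.finite_irreducibleComponents.subset Set.sdiff_subset).isClosed_biUnion
      fun C hC => isClosed_of_mem_irreducibleComponents C hC.1
  have hηT : η ∉ T := by
    rintro ⟨C, ⟨hC, hne⟩, hηC⟩
    exact hne (
      Set.mem_singleton_iff.2 (hη.eq_of_ge hC.1 (closure_minimal (Set.singleton_subset_iff.2 hηC)
        (isClosed_of_mem_irreducibleComponents C hC))))
  obtain ⟨_, ⟨U, hU, rfl⟩, hηU, hUT⟩ :=
    X.isBasis_affineOpens.exists_subset_of_mem_open (show η ∈ Tᶜ from hηT) hT.isOpen_compl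
  have hsub : (U : Set X) ⊆ closure {η} := fun y hy => by
    by_contra hyc
    exact hUT hy ⟨irreducibleComponent y, ⟨irreducibleComponent_mem_irreducibleComponents y,
      fun h => hyc (Set.mem_singleton_iff.1 h ▸ mem_irreducibleComponent)⟩, mem_irreducibleComponent⟩
  exact ⟨U, hU, hηU, hsub, fun η' hη' hη'U =>
    (NormAmpleX.eq_of_specializes_generic hη' (specializes_iff_mem_closure.2 (hsub hη'U))).symm⟩

/-- The base field is algebraically closed in the function field of a geometrically integral component. -/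
theorem exists_eq_scalar {η : X} (hη : η ∈ genericPoints (X : Type u)) (C : Set X) (hC : IsClosed C)
    (hCη : C = closure {η})
    (hgi : GeometricallyIntegral (VecSt.subschι X C hC ≫ (X ↘ Spec (CommRingCat.of k))))
    (a : X.presheaf.stalk η)
    (ha : letI : Algebra k (X.presheaf.stalk η) := (Curv2.stalkMap k X η).toAlgebra; IsIntegral k a) :
    ∃ c : k, a = Curv2.stalkMap k X η c := by
  by_contra hnot
  push Not at hnot
  letI := (NormAmpleX.isField_stalk_of_generic hη).toField
  letI : Algebra k (X.presheaf.stalk η) := (Curv2.stalkMap k X η).toAlgebra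
  haveI := CurveCohLib.isNoetherian_of_proper (k := k) (X := X)
  obtain ⟨U, hU, hηU, hsub, honly⟩ := exists_nbhd_component hη
  -- the open `U` inside the component
  let ι := VecSt.subschι X C hC
  have hrange : Set.range ι = C := by
    show Set.range (Scheme.IdealSheafData.subschemeι _) = C
    rw [Scheme.IdealSheafData.range_subschemeι]
    rfl
  haveI : IsClosedImmersion (ι ∣_ U) := MorphismProperty.of_isPullback (isPullback_morphismRestrict ι U).flip inferInstance
  haveI : Surjective (ι ∣_ U) := ⟨fun y => by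
    obtain ⟨z, hz⟩ : (y.1 : X) ∈ Set.range ι := by rw [hrange, hCη]; exact hsub y.2
    refine ⟨⟨z, show ι z ∈ U by rw [hz]; exact y.2⟩, Subtype.ext ?_⟩
    rw [morphismRestrict_base_coe]
    exact hz⟩
  haveI := isIso_of_isClosedImmersion_of_surjective (ι ∣_ U)
  let g : Spec Γ(X, U) ⟶ VecSt.subsch X C hC := hU.isoSpec.inv ≫ inv (ι ∣_ U) ≫ (ι ⁻¹ᵁ U).ι
  let q := ι ≫ (X ↘ Spec (CommRingCat.of k))
  let A := Γ(X, U)
  letI : Algebra k A :=
    ((Scheme.ΓSpecIso (CommRingCat.of k)).inv ≫ (X ↘ Spec (CommRingCat.of k)).appLE ⊤ U le_top).hom.toAlgebra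
  have hgq : g ≫ q = Spec.map (CommRingCat.ofHom (algebraMap k A)) := by
    have e : g ≫ ι = hU.fromSpec := by
      simp only [g, Category.assoc]
      rw [← morphismRestrict_ι, IsIso.inv_hom_id_assoc]
      rfl
    show g ≫ ι ≫ _ = _
    rw [reassoc_of% e, show CommRingCat.ofHom (algebraMap k A) =
      (Scheme.ΓSpecIso (CommRingCat.of k)).inv ≫ (X ↘ Spec (CommRingCat.of k)).appLE ⊤ U le_top from rfl,
      Spec.map_comp, ← IsAffineOpen.SpecMap_appLE_fromSpec _ (isAffineOpen_top _) hU le_top,
      IsAffineOpen.fromSpec_top, Scheme.isoSpec_Spec_inv]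
  -- the germ map
  have hgerm : ∀ c : k, X.presheaf.germ U η hηU (algebraMap k A c) = Curv2.stalkMap k X η c := fun c => by
    show X.presheaf.germ U η hηU (((X ↘ Spec (CommRingCat.of k)).appLE ⊤ U le_top)
      ((Scheme.ΓSpecIso (CommRingCat.of k)).inv c)) = _
    rw [Scheme.Hom.appLE, CommRingCat.comp_apply]
    exact X.presheaf.germ_res_apply _ η hηU _
  let germ : A →ₐ[k] X.presheaf.stalk η := { (X.presheaf.germ U η hηU).hom with commutes' := hgerm }
  have hinj : Function.Injective germ := (injective_iff_map_eq_zero _).2 fun f hf =>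
    NormAmpleX.eq_zero_of_germ_generic f fun η' hη' hη'U => by
      obtain rfl := honly η' hη' hη'U
      exact hf
  haveI : IsDomain A := hinj.isDomain _
  -- a representation of `a`
  obtain ⟨f, d, hd, hfd⟩ : ∃ f d : A, germ d ≠ 0 ∧ a * germ d = germ f := by
    letI := QCoh.stalkAlg (X := X) hηU
    haveI := QCoh.isLocalization_stalk' hU hηU
    obtain ⟨⟨f, d⟩, h⟩ := IsLocalization.surj (hU.primeIdealOf ⟨η, hηU⟩).asIdeal.primeCompl a
    exact ⟨f, d, (IsLocalization.map_units (X.presheaf.stalk η) d).ne_zero, h⟩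
  -- the finite extension
  let L := IntermediateField.adjoin k ({a} : Set (X.presheaf.stalk η))
  haveI : FiniteDimensional k L := IntermediateField.adjoin.finiteDimensional ha
  let α : L := ⟨a, IntermediateField.mem_adjoin_simple_self k a⟩
  let μ : TensorProduct k A L →ₐ[k] X.presheaf.stalk η :=
    Algebra.TensorProduct.lift germ L.val fun _ _ => Commute.all _ _
  have hdom : IsDomain (TensorProduct k A L) := by
    haveI : Nontrivial (TensorProduct k A L) := μ.toRingHom.domain_nontrivial
    haveI : IsIntegral (pullback q (Spec.map (CommRingCat.ofHom (algebraMap k L)))) :=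
      (geometrically_iff_of_commRing.1 hgi.geometrically_isIntegral) (K := L) _ _ (IsPullback.of_hasPullback _ _)
    haveI : IsOpenImmersion g := inferInstance
    let j : Spec (CommRingCat.of (TensorProduct k A L)) ⟶
        pullback q (Spec.map (CommRingCat.ofHom (algebraMap k L))) :=
      (pullbackSpecIso k A L).inv ≫ (pullback.congrHom hgq rfl).inv ≫
        (pullbackRightPullbackFstIso q (Spec.map (CommRingCat.ofHom (algebraMap k L))) g).inv ≫
          pullback.snd _ _
    haveI : IsOpenImmersion j := inferInstance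
    haveI := isIntegral_of_isOpenImmersion j
    exact (affine_isIntegral_iff (CommRingCat.of (TensorProduct k A L))).1 inferInstance
  -- the multiplication map has zero kernel
  have hker : RingHom.ker μ = ⊥ := by
    haveI := hdom
    haveI : Algebra.IsIntegral A (TensorProduct k A L) := inferInstance
    refine Ideal.eq_bot_of_comap_eq_bot (R := A) (S := TensorProduct k A L) ?_
    refine eq_bot_iff.2 fun r hr => ?_
    refine (Submodule.mem_bot A).2 (hinj ?_)
    have h : μ (r ⊗ₜ (1 : L)) = 0 := hr
    rw [Algebra.TensorProduct.lift_tmul, map_one, mul_one] at h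
    rw [h, map_zero]
  have hz : f ⊗ₜ[k] (1 : L) - d ⊗ₜ[k] α = 0 := by
    refine (Submodule.mem_bot _).1 (hker ▸ (RingHom.mem_ker.2 ?_))
    rw [map_sub, Algebra.TensorProduct.lift_tmul, Algebra.TensorProduct.lift_tmul, map_one, mul_one,
      ← hfd, mul_comm a, sub_eq_zero]
    rfl
  obtain ⟨ℓ, hℓ, hℓ1⟩ := (Submodule.span k ({1} : Set L)).exists_dual_map_eq_bot_of_notMem (x := α)
    (fun h => by
      obtain ⟨c, hc⟩ := Submodule.mem_span_singleton.1 h
      refine hnot c ?_
      have := congrArg (fun t : L => (t : X.presheaf.stalk η)) hc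
      simp only [IntermediateField.coe_smul, OneMemClass.coe_one] at this
      rw [Algebra.smul_def, mul_one] at this
      exact this.symm) inferInstance
  have hℓone : ℓ 1 = 0 := (Submodule.mem_bot k).1 (hℓ1 ▸ Submodule.mem_map_of_mem (Submodule.mem_span_singleton_self 1))
  have h0 := congrArg ((TensorProduct.rid k A).toLinearMap ∘ₗ ℓ.lTensor A) hz
  simp only [LinearMap.comp_apply, map_sub, LinearMap.lTensor_tmul, LinearEquiv.coe_coe,
    TensorProduct.rid_tmul, map_zero, hℓone, zero_smul, zero_sub, neg_eq_zero] at h0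
  rcases smul_eq_zero.1 h0 with h | h
  · exact hℓ h
  · exact hd (by rw [h, map_zero])

end Groth.Agent.TFOneX
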