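import Groth.Agent.TFOneX.Rows

/-!
The special fibre of an elementary modification, with its two comparison maps.
-/

set_option autoImplicit false
set_option linter.style.haveILetI false
set_option linter.unusedSectionVars false
set_option backward.isDefEq.respectTransparency false
set_option backward.isDefEq.respectTransparency.types false
universe u
open CategoryTheory CategoryTheory.Limits AlgebraicGeometry TopologicalSpace Opposite

namespace Groth.Agent.TFOneX

section Fibre

variable {R : Type u} [CommRing R] [IsDomain R] [IsDiscreteValuationRing R]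
  {X : Scheme.{u}} [X.Over (Spec (CommRingCat.of R))]
  {Xs : Scheme.{u}} [Xs.Over (Spec (CommRingCat.of (IsLocalRing.ResidueField R)))] {i : Xs ⟶ X}
  (hsq : IsPullback i (Xs ↘ Spec (CommRingCat.of (IsLocalRing.ResidueField R)))
    (X ↘ Spec (CommRingCat.of R)) (Spec.map (CommRingCat.ofHom (IsLocalRing.residue R))))

variable {ϖ : R} (hϖ : IsLocalRing.maximalIdeal R = Ideal.span {ϖ})

include hsq hϖ in
/-- The special fibre of the kernel of `A ⟶ i_* i^* A ⟶ i_* G` is an extension of the kernel of the
quotient by the quotient. -/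
theorem exists_fibre_sequence_of_mono [IsClosedImmersion i] [IsNoetherian X] {A : X.Modules} (hA : Coh.IsCoh A)
    (hmono : Mono (Formal.smulMod R A ϖ)) {G : Xs.Modules}
    (hG : Coh.IsCoh G) (π : (Scheme.Modules.pullback i).obj A ⟶ G) [Epi π] {A' : X.Modules}
    (hA' : A' = kernel ((Scheme.Modules.pullbackPushforwardAdjunction i).unit.app A ≫
      (Scheme.Modules.pushforward i).map π)) :
    ∃ (_ : Coh.IsCoh A') (incl : A' ⟶ A) (θ : A ⟶ A') (α : G ⟶ (Scheme.Modules.pullback i).obj A')
      (β : (Scheme.Modules.pullback i).obj A' ⟶ kernel π) (w : α ≫ β = 0),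
      (ShortComplex.mk α β w).ShortExact ∧ Mono incl ∧
      incl ≫ (Scheme.Modules.pullbackPushforwardAdjunction i).unit.app A ≫
        (Scheme.Modules.pushforward i).map π = 0 ∧
      (∀ {T : X.Modules} (g : T ⟶ A), g ≫ (Scheme.Modules.pullbackPushforwardAdjunction i).unit.app A ≫
        (Scheme.Modules.pushforward i).map π = 0 → ∃ g' : T ⟶ A', g' ≫ incl = g) ∧
      θ ≫ incl = Formal.smulMod R A ϖ ∧ π ≫ α = (Scheme.Modules.pullback i).map θ := by
  subst hA'
  haveI : IsLocallyNoetherian Xs := LocallyOfFiniteType.isLocallyNoetherian i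
  let adj := Scheme.Modules.pullbackPushforwardAdjunction i
  let P := Scheme.Modules.pullback i
  let p := adj.unit.app A ≫ (Scheme.Modules.pushforward i).map π
  have hA' : Coh.IsCoh (kernel p) := QCoh.isCoh_kernel hA (QCoh.isCoh_push i hG) p
  refine ⟨hA', kernel.ι _, ?_⟩
  haveI := hmono
  let ι := kernel.ι p
  let θ : A ⟶ kernel p := kernel.lift p (Formal.smulMod R A ϖ) (by
    rw [← Category.assoc, smul_unit hsq hϖ hA.1, zero_comp])
  have hθι : θ ≫ ι = Formal.smulMod R A ϖ := kernel.lift_ι _ _ _
  have hιθ : ι ≫ θ = Formal.smulMod R (kernel p) ϖ := by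
    rw [← cancel_mono ι, Category.assoc, hθι, FFun.smulMod_naturality]
    rfl
  haveI : Mono θ := mono_of_mono_fac hθι
  -- the transposes of the pulled back maps
  have htr : ∀ {M N : X.Modules} (g : M ⟶ N),
      adj.unit.app M ≫ (Scheme.Modules.pushforward i).map (P.map g) = g ≫ adj.unit.app N :=
    fun g => (adj.unit.naturality g).symm
  have hzero : ∀ {M N : X.Modules} (g : M ⟶ N), g ≫ adj.unit.app N = 0 → P.map g = 0 := by
    intro M N g hg
    refine (adj.homEquiv M _).injective ?_
    rw [Adjunction.homEquiv_unit, Adjunction.homEquiv_unit, Functor.map_zero, comp_zero, htr, hg]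
  have h12 : P.map ι ≫ π = 0 := by
    refine (adj.homEquiv _ _).injective ?_
    rw [Adjunction.homEquiv_unit, Adjunction.homEquiv_unit, Functor.map_zero, comp_zero, Functor.map_comp,
      ← Category.assoc, htr, Category.assoc]
    exact kernel.condition p
  -- the pullback of `ι` is onto the kernel of `π`
  have hex : kernel.ι π ≫ cokernel.π (P.map ι) = 0 := by
    refine kernel_le i hA hG.1 π _ ?_
    show ι ≫ adj.unit.app A ≫ _ = 0
    refine (Category.assoc _ _ _).symm.trans ((congrArg (· ≫ _) (htr ι).symm).trans ?_)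
    rw [Category.assoc, ← Functor.map_comp, cokernel.condition, Functor.map_zero, comp_zero]
  let β : P.obj (kernel p) ⟶ kernel π := kernel.lift π (P.map ι) h12
  haveI : Epi β := by
    refine Preadditive.epi_of_cancel_zero _ fun {T} g hg => ?_
    obtain ⟨T', c, hc⟩ : ∃ (T' : Xs.Modules) (c : T ⟶ T'), Mono c ∧ ∃ e, kernel.ι π ≫ e = g ≫ c :=
      ⟨_, pushout.inl g (kernel.ι π), inferInstance, pushout.inr g (kernel.ι π),
        (pushout.condition (f := g) (g := kernel.ι π)).symm⟩
    obtain ⟨hmono, e, he⟩ := hc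
    haveI := hmono
    have h1 : P.map ι ≫ e = 0 := by
      rw [← kernel.lift_ι π (P.map ι) h12, Category.assoc, he, ← Category.assoc, hg, zero_comp]
    have h2 : kernel.ι π ≫ e = 0 := by
      rw [← cokernel.π_desc (P.map ι) e h1, ← Category.assoc, hex, zero_comp]
    rw [← cancel_mono c, zero_comp, ← he, h2]
  -- the pullback of `θ` descends along `π`
  have h21 : P.map θ ≫ P.map ι = 0 := by
    rw [← Functor.map_comp, hθι]
    exact hzero _ (smul_unit hsq hϖ hA.1)
  have h10 : P.map ι ≫ P.map θ = 0 := by
    rw [← Functor.map_comp, hιθ]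
    exact hzero _ (smul_unit hsq hϖ hA'.1)
  have hkθ : kernel.ι π ≫ P.map θ = 0 := by
    rw [← cokernel.π_desc (P.map ι) (P.map θ) h10, ← Category.assoc, hex, zero_comp]
  let α : G ⟶ P.obj (kernel p) := Abelian.epiDesc π (P.map θ) hkθ
  have hπα : π ≫ α = P.map θ := Abelian.comp_epiDesc _ _ _
  have w : α ≫ β = 0 := by
    rw [← cancel_epi π, ← cancel_mono (kernel.ι π)]
    simp only [Category.assoc, zero_comp, comp_zero]
    rw [kernel.lift_ι, reassoc_of% hπα, h21]
  -- sections killed by the modification come from the modification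
  haveI : Mono α := by
    have hk : kernel.ι (P.map θ) ≫ π = 0 := by
      refine kernel_le i hA (KZ.ClosedDev.isCoh_pull i hA').1 (P.map θ) _ ?_
      rw [show adj.unit.app A ≫ (Scheme.Modules.pushforward i).map (P.map θ) = θ ≫ adj.unit.app (kernel p)
        from htr θ]
      let K := kernel.ι (θ ≫ adj.unit.app (kernel p))
      show K ≫ p = 0
      let m : kernel (θ ≫ adj.unit.app (kernel p)) ⟶ kernel (adj.unit.app (kernel p)) :=
        kernel.lift _ (K ≫ θ) (by rw [Category.assoc]; exact kernel.condition _)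
      have hKθ : (K ≫ θ) ≫ cokernel.π (Formal.smulMod R (kernel p) ϖ) = 0 := by
        rw [← kernel.lift_ι _ (K ≫ θ) (by rw [Category.assoc]; exact kernel.condition _), Category.assoc,
          kernel_unit hsq hϖ hA'.1, comp_zero]
      have hmonoS : Mono (Formal.smulMod R (kernel p) ϖ) := by
        rw [← hιθ]; infer_instance
      obtain ⟨l, hl⟩ : ∃ l, l ≫ Formal.smulMod R (kernel p) ϖ = K ≫ θ :=
        ⟨Abelian.monoLift _ _ hKθ, Abelian.monoLift_comp _ _ _⟩
      rw [← hιθ, ← Category.assoc, cancel_mono] at hl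
      rw [← hl, Category.assoc]
      show l ≫ ι ≫ p = 0
      rw [kernel.condition, comp_zero]
    refine Preadditive.mono_of_cancel_zero _ fun {T} g hg => ?_
    let P' := pullback g π
    have h1 : (pullback.snd g π) ≫ P.map θ = 0 := by
      rw [← hπα, ← Category.assoc, ← pullback.condition, Category.assoc, hg, comp_zero]
    have h2 : pullback.snd g π ≫ π = 0 := by
      rw [← kernel.lift_ι _ _ h1, Category.assoc, hk, comp_zero]
    rw [← cancel_epi (pullback.fst g π), comp_zero, pullback.condition, h2]
  have hexact : (ShortComplex.mk α β w).Exact := by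
    have hk : kernel.ι (P.map ι) ≫ cokernel.π α = 0 := by
      refine kernel_le i hA' (KZ.ClosedDev.isCoh_pull i hA).1 (P.map ι) _ ?_
      rw [show adj.unit.app (kernel p) ≫ (Scheme.Modules.pushforward i).map (P.map ι) = ι ≫ adj.unit.app A
        from htr ι]
      let K := kernel.ι (ι ≫ adj.unit.app A)
      have hKι : (K ≫ ι) ≫ cokernel.π (Formal.smulMod R A ϖ) = 0 := by
        rw [← kernel.lift_ι _ (K ≫ ι) (by rw [Category.assoc]; exact kernel.condition _), Category.assoc,
          kernel_unit hsq hϖ hA.1, comp_zero]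
      obtain ⟨l, hl⟩ : ∃ l, l ≫ Formal.smulMod R A ϖ = K ≫ ι :=
        ⟨Abelian.monoLift _ _ hKι, Abelian.monoLift_comp _ _ _⟩
      rw [← hθι, ← Category.assoc, cancel_mono] at hl
      show K ≫ _ = 0
      rw [← hl, Category.assoc, ← Category.assoc θ, ← htr θ, Category.assoc, ← Functor.map_comp, ← hπα,
        Category.assoc, cokernel.condition, comp_zero, Functor.map_zero, comp_zero, comp_zero]
    refine ShortComplex.exact_iff_kernel_ι_comp_cokernel_π_zero _ |>.2 ?_
    show kernel.ι β ≫ cokernel.π α = 0
    have h3 : kernel.ι β ≫ P.map ι = 0 := by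
      rw [← kernel.lift_ι π (P.map ι) h12, ← Category.assoc, kernel.condition, zero_comp]
    rw [← kernel.lift_ι _ _ h3, Category.assoc, hk, comp_zero]
  exact ⟨θ, α, β, w, { exact := hexact }, inferInstance, kernel.condition _,
    fun g hg => ⟨kernel.lift _ g hg, kernel.lift_ι _ _ _⟩, hθι, hπα⟩

end Fibre

end Groth.Agent.TFOneX
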