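import Groth.Agent.TFOneX.Deg
import Groth.Agent.KFlatLib.Scheme.RelTor

/-!
Euler characteristics of the torsion-free quotients of an extension of `ker (F ⟶ F_Y)` by `F_Y`.
-/

set_option autoImplicit false
set_option linter.style.haveILetI false
set_option linter.unusedSectionVars false
set_option backward.isDefEq.respectTransparency false
set_option backward.isDefEq.respectTransparency.types false

universe u

open CategoryTheory CategoryTheory.Limits AlgebraicGeometry TopologicalSpace Opposite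

namespace Groth.Agent.TFOneX

variable {X : Scheme.{u}}

theorem exists_sm_eq {A B C : X.Modules} {f : A ⟶ B} {g : B ⟶ C} {w : f ≫ g = 0}
    (hS : (ShortComplex.mk f g w).Exact) (x : X) (b : B.presheaf.stalk x) (h : sm g x b = 0) :
    ∃ a, sm f x a = b :=
  (ShortComplex.moduleCat_exact_iff _).1 (hS.map (DerSch.stalkFunctor X x)) b h

section TF

variable {F GY F' : X.Modules} {Y : Set X} {πY : F ⟶ GY}
  {α : GY ⟶ F'} {β : F' ⟶ kernel πY} {w : α ≫ β = 0}

theorem isTorsionFree_of_ext (hF : TorSh.IsTorsionFree F) (hG : TorSh.IsTorsionFree GY)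
    (hS : (ShortComplex.mk α β w).ShortExact) : TorSh.IsTorsionFree F' := fun x => by
  haveI := hS.mono_f
  haveI := hF x
  haveI := hG x
  refine ⟨fun r hr => ?_⟩
  rw [isSMulRegular_iff_right_eq_zero_of_smul]
  intro a ha
  have hb : sm (β ≫ kernel.ι πY) x a = 0 := by
    have h1 : r • sm (β ≫ kernel.ι πY) x a = r • (0 : F.presheaf.stalk x) := by
      rw [← LinearMap.map_smul, ha, map_zero, smul_zero]
    exact (hr.isSMulRegular (M := F.presheaf.stalk x)) h1
  rw [sm_comp] at hb
  obtain ⟨b, rfl⟩ := exists_sm_eq hS.exact x a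
    (injective_sm (kernel.ι πY) x (hb.trans (map_zero _).symm))
  have h2 : r • b = r • (0 : GY.presheaf.stalk x) := by
    rw [smul_zero]
    refine injective_sm α x ?_
    rw [map_zero, LinearMap.map_smul]
    exact ha
  rw [(hr.isSMulRegular (M := GY.presheaf.stalk x)) h2, map_zero]

variable [IsLocallyNoetherian X] [AlgebraicGeometry.IsReduced X]

theorem notMem_support_kernel (hrk : TFOne.IsRkOne X F) (hY : TFOne.IsQuotOn X F Y GY πY) {η : X}
    (hη : η ∈ genericPoints (X : Type u)) (hηY : η ∈ Y) : η ∉ CohB1.support (kernel πY) := by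
  obtain ⟨hp, -, -, hs⟩ := hY
  haveI := hp
  exact subsingleton_kernel πY η (bijective_at hrk πY hη (hs.symm ▸ hηY)).1

theorem isRkOne_of_ext (hrk : TFOne.IsRkOne X F) (hY : TFOne.IsQuotOn X F Y GY πY)
    (hS : (ShortComplex.mk α β w).ShortExact) : TFOne.IsRkOne X F' := fun η hη => by
  haveI := hS.mono_f
  haveI := hS.epi_g
  haveI := hY.1
  obtain ⟨e⟩ := hrk η hη
  by_cases hηY : η ∈ Y
  · have h0 := notMem_support_kernel hrk hY hη hηY
    have hbij : Function.Bijective (sm α η) := ⟨injective_sm α η, fun b =>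
      exists_sm_eq hS.exact η b (eq_zero_of_notMem h0 _)⟩
    exact ⟨(LinearEquiv.ofBijective (sm α η) hbij).symm ≪≫ₗ
      (LinearEquiv.ofBijective (sm πY η) (bijective_at hrk πY hη (hY.2.2.2.symm ▸ hηY))).symm ≪≫ₗ e⟩
  · have h0 : η ∉ CohB1.support GY := hY.2.2.2.symm ▸ hηY
    have hbij : Function.Bijective (sm (β ≫ kernel.ι πY) η) := by
      refine ⟨fun a a' h => ?_, fun b => ?_⟩
      · rw [sm_comp, sm_comp] at h
        have h1 : sm β η (a - a') = 0 := by rw [map_sub, injective_sm (kernel.ι πY) η h, sub_self]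
        obtain ⟨c, hc⟩ := exists_sm_eq hS.exact η _ h1
        rw [eq_zero_of_notMem h0 c, map_zero] at hc
        exact sub_eq_zero.1 hc.symm
      · obtain ⟨c, hc⟩ := exists_sm_eq (f := kernel.ι πY) (g := πY) (w := kernel.condition πY)
          (CurveSlope.shortExact_kernel_of_epi πY).exact η b (eq_zero_of_notMem h0 _)
        obtain ⟨a, rfl⟩ := surjective_sm β η c
        exact ⟨a, by rw [sm_comp]; exact hc⟩
    exact ⟨(LinearEquiv.ofBijective (sm (β ≫ kernel.ι πY) η) hbij) ≪≫ₗ e⟩

theorem mono_quot_of_all {G : X.Modules} (hFc : Coh.IsCoh F) (hFt : TorSh.IsTorsionFree F)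
    (hrk : TFOne.IsRkOne X F) {π : F ⟶ G} [Epi π] {U : Set X} (hall : ∀ η ∈ genericPoints (X : Type u), η ∈ U)
    (hs : CohB1.support G = U) : Mono π :=
  Preadditive.mono_of_cancel_zero _ fun g hg => hom_eq_zero hFc.1 hFt g fun η hη _ a =>
    (bijective_at hrk π hη (hs.symm ▸ hall η hη)).1 (by rw [← sm_comp, hg, sm_zero, map_zero])

end TF

section Euler

variable (k : Type u) [Field k] [X.Over (Spec (CommRingCat.of k))] [IsProper (X ↘ Spec (CommRingCat.of k))]
  [AlgebraicGeometry.IsReduced X]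
variable {F GY F' : X.Modules} {Y : Set X} {πY : F ⟶ GY}
  {α : GY ⟶ F'} {β : F' ⟶ kernel πY} {w : α ≫ β = 0}

omit [AlgebraicGeometry.IsReduced X] in
theorem euler_eq_zero_of_isZero' {M : X.Modules} (h : IsZero M) : Curv2.euler k X M = 0 := by
  rw [Euler.euler_eq_sum k M 0 (fun i _ => Euler.subsingleton_HH_of_isZero h i)]
  simp

theorem euler_ext (hFc : Coh.IsCoh F) (hGc : Coh.IsCoh GY) (hF'c : Coh.IsCoh F') [Epi πY]
    (hS : (ShortComplex.mk α β w).ShortExact) : Curv2.euler k X F' = Curv2.euler k X F := by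
  have hK : Coh.IsCoh (kernel πY) := by
    haveI := CurveCohLib.isNoetherian_of_proper (k := k) (X := X)
    exact QCoh.isCoh_kernel hFc hGc πY
  have e1 := Euler.euler_add k (S := ShortComplex.mk α β w) hS hGc hF'c hK
  have e2 := Euler.euler_add k (CurveSlope.shortExact_kernel_of_epi πY) hK hFc hGc
  dsimp only at e1 e2
  linarith

variable {Z W U : Set X} {GZ GW GU : X.Modules} {πZ : F' ⟶ GZ} {πW : F ⟶ GW} {πU : F ⟶ GU}

/-- `χ(F'_Z) + χ(F_Y) ≥ χ(F_W) + χ(F_U)`, with equality when `W` is empty or `U` is everything. -/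
theorem euler_modif (h1 : topologicalKrullDim X ≤ 1) (hFc : Coh.IsCoh F) (hFt : TorSh.IsTorsionFree F)
    (hrk : TFOne.IsRkOne X F) (hY : TFOne.IsQuotOn X F Y GY πY) (hF'c : Coh.IsCoh F')
    (hS : (ShortComplex.mk α β w).ShortExact)
    (hZ : TFOne.IsQuotOn X F' Z GZ πZ) (hW : TFOne.IsQuotOn X F W GW πW) (hU : TFOne.IsQuotOn X F U GU πU)
    (hgU : ∀ η ∈ genericPoints (X : Type u), (η ∈ U ↔ η ∈ Y ∨ η ∈ Z))
    (hgW : ∀ η ∈ genericPoints (X : Type u), (η ∈ W ↔ η ∈ Y ∧ η ∈ Z)) :
    Curv2.euler k X GW + Curv2.euler k X GU ≤ Curv2.euler k X GZ + Curv2.euler k X GY ∧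
      (((∀ η ∈ genericPoints (X : Type u), η ∉ W) ∨ (∀ η ∈ genericPoints (X : Type u), η ∈ U)) →
        Curv2.euler k X GW + Curv2.euler k X GU = Curv2.euler k X GZ + Curv2.euler k X GY) := by
  haveI := CurveCohLib.isNoetherian_of_proper (k := k) (X := X)
  have hrk' : TFOne.IsRkOne X F' := isRkOne_of_ext hrk hY hS
  obtain ⟨gYW, hgYW, hepiW⟩ := exists_desc hrk hY hW fun η hη h => ((hgW η hη).1 h).1
  obtain ⟨gUY, hgUY, hepiY⟩ := exists_desc hrk hU hY fun η hη h => (hgU η hη).2 (Or.inl h)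
  have hkerY := fun η (hη : η ∈ genericPoints (X : Type u)) h => notMem_support_kernel hrk hY hη h
  obtain ⟨hpY, hcY, htY, hsY⟩ := hY
  obtain ⟨hpZ, hcZ, htZ, hsZ⟩ := hZ
  obtain ⟨hpW, hcW, htW, hsW⟩ := hW
  obtain ⟨hpU, hcU, htU, hsU⟩ := hU
  haveI := hpY; haveI := hpZ; haveI := hpW; haveI := hpU; haveI := hepiW; haveI := hepiY
  haveI : Mono α := hS.mono_f
  haveI : Epi β := hS.epi_g
  -- `F_W` inside `F'_Z`
  have hkW : kernel.ι gYW ≫ α ≫ πZ = 0 := hom_eq_zero hcZ.1 htZ _ fun η hη hs a => by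
    have hz : η ∈ Z := hsZ ▸ hs
    by_cases hy : η ∈ Y
    · have hbi := bijective_desc hrk hgYW hη (hsY.symm ▸ hy) (hsW.symm ▸ (hgW η hη).2 ⟨hy, hz⟩)
      have : sm (kernel.ι gYW) η a = 0 := hbi.1 (by rw [← sm_comp, kernel.condition, sm_zero, map_zero])
      rw [sm_comp, this, map_zero]
    · rw [sm_comp, eq_zero_of_notMem (hsY.symm ▸ hy) (sm (kernel.ι gYW) η a), map_zero]
  let h : GW ⟶ GZ := Abelian.epiDesc gYW (α ≫ πZ) hkW
  have hh : gYW ≫ h = α ≫ πZ := Abelian.comp_epiDesc _ _ _
  haveI : Mono h := Preadditive.mono_of_cancel_zero _ fun {T} g hg => hom_eq_zero hcW.1 htW g fun η hη hs a => by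
    obtain ⟨hy, hz⟩ := (hgW η hη).1 (hsW ▸ hs)
    obtain ⟨b, hb⟩ := surjective_sm gYW η (sm g η a)
    have h2 : sm πZ η (sm α η b) = 0 := by
      rw [← sm_comp, ← hh, sm_comp, hb, ← sm_comp, hg, sm_zero]
    have h3 : sm α η b = 0 := (bijective_at hrk' πZ hη (hsZ.symm ▸ hz)).1 (h2.trans (map_zero _).symm)
    rw [← hb, injective_sm α η (h3.trans (map_zero _).symm), map_zero]
  let C := cokernel h
  have hcC : Coh.IsCoh C := QCoh.isCoh_cokernel hcW.1 hcZ h
  have hαq : α ≫ πZ ≫ cokernel.π h = 0 := by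
    rw [← Category.assoc, ← hh, Category.assoc, cokernel.condition, comp_zero]
  let γ : kernel πY ⟶ C := hS.exact.desc (πZ ≫ cokernel.π h) hαq
  have hγ : β ≫ γ = πZ ≫ cokernel.π h := hS.exact.g_desc _ _
  haveI : Epi γ := by
    haveI : Epi (β ≫ γ) := by rw [hγ]; exact epi_comp _ _
    exact epi_of_epi β γ
  -- the kernel of `F_U ⟶ F_Y`
  let δ : kernel πY ⟶ kernel gUY := kernel.lift gUY (kernel.ι πY ≫ πU) (by
    rw [Category.assoc, hgUY, kernel.condition])
  haveI : Epi δ := by
    haveI : Epi (pullback.snd πU (kernel.ι gUY)) := inferInstance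
    have hfst : pullback.fst πU (kernel.ι gUY) ≫ πY = 0 := by
      rw [← hgUY, ← Category.assoc, pullback.condition, Category.assoc, kernel.condition, comp_zero]
    refine epi_of_epi_fac (f := kernel.lift πY _ hfst) (h := pullback.snd πU (kernel.ι gUY)) ?_
    rw [← cancel_mono (kernel.ι gUY)]
    simp only [δ, Category.assoc, kernel.lift_ι]
    rw [← Category.assoc, kernel.lift_ι, pullback.condition]
  have hKc : Coh.IsCoh (kernel gUY) := QCoh.isCoh_kernel hcU hcY gUY
  have hKt : TorSh.IsTorsionFree (kernel gUY) := fun x => by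
    haveI := htU x
    let f : (kernel gUY).presheaf.stalk x → GU.presheaf.stalk x := fun m => sm (kernel.ι gUY) x m
    exact Function.Injective.moduleIsTorsionFree f (injective_sm (kernel.ι gUY) x)
      (fun r m => LinearMap.map_smul (sm (kernel.ι gUY) x) r m)
  -- at the generic points of `Z` outside `Y` both maps are injective
  have hinj : ∀ η ∈ genericPoints (X : Type u), η ∉ Y → η ∈ Z →
      Function.Injective (sm γ η) ∧ Function.Injective (sm δ η) := by
    intro η hη hy hz
    refine ⟨(injective_iff_map_eq_zero _).2 fun b hb => ?_, (injective_iff_map_eq_zero _).2 fun b hb => ?_⟩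
    · obtain ⟨a, rfl⟩ := surjective_sm β η b
      rw [← sm_comp, hγ, sm_comp] at hb
      obtain ⟨c, hc⟩ := exists_sm_eq (f := h) (g := cokernel.π h) (w := cokernel.condition h)
        (CurveSlope.shortExact_cokernel_of_mono h).exact η _ hb
      rw [eq_zero_of_notMem (hsW.symm ▸ fun hw => hy ((hgW η hη).1 hw).1) c, map_zero] at hc
      rw [(bijective_at hrk' πZ hη (hsZ.symm ▸ hz)).1 (hc.symm.trans (map_zero _).symm), map_zero]
    · have h2 : sm πU η (sm (kernel.ι πY) η b) = 0 := by
        rw [← sm_comp, show kernel.ι πY ≫ πU = δ ≫ kernel.ι gUY from (kernel.lift_ι _ _ _).symm, sm_comp, hb,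
          map_zero]
      exact injective_sm (kernel.ι πY) η
        (((bijective_at hrk πU hη (hsU.symm ▸ (hgU η hη).2 (Or.inr hz))).1
          (h2.trans (map_zero _).symm)).trans (map_zero _).symm)
  have hkδ : kernel.ι γ ≫ δ = 0 := hom_eq_zero hKc.1 hKt _ fun η hη hs a => by
    by_cases hy : η ∈ Y
    · rw [sm_comp, eq_zero_of_notMem (hkerY η hη hy) (sm (kernel.ι γ) η a), map_zero]
    · have hz : η ∈ Z := ((hgU η hη).1 (hsU ▸ support_subset_of_mono (kernel.ι gUY) hs)).resolve_left hy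
      have h0 : sm (kernel.ι γ) η a = 0 := (hinj η hη hy hz).1
        (by rw [← sm_comp, kernel.condition, sm_zero, map_zero])
      rw [sm_comp, h0, map_zero]
  let ε : C ⟶ kernel gUY := Abelian.epiDesc γ δ hkδ
  have hε : γ ≫ ε = δ := Abelian.comp_epiDesc _ _ _
  haveI : Epi ε := by
    haveI : Epi (γ ≫ ε) := by rw [hε]; infer_instance
    exact epi_of_epi γ ε
  have hNc : Coh.IsCoh (kernel ε) := QCoh.isCoh_kernel hcC hKc ε
  have hng : ∀ x ∈ genericPoints (X : Type u), x ∉ CohB1.support (kernel ε) := fun x hη hx => by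
    by_cases hy : x ∈ Y
    · exact hkerY x hη hy (support_subset_of_epi γ (support_subset_of_mono (kernel.ι ε) hx))
    by_cases hz : x ∈ Z
    · refine subsingleton_kernel ε x ((injective_iff_map_eq_zero _).2 fun c hc => ?_) hx
      obtain ⟨b, rfl⟩ := surjective_sm γ x c
      rw [← sm_comp, hε] at hc
      rw [(hinj x hη hy hz).2 (hc.trans (map_zero _).symm), map_zero]
    · exact hz (hsZ ▸ support_subset_of_epi (cokernel.π h) (support_subset_of_mono (kernel.ι ε) hx))
  have hcl : ∀ x ∈ CohB1.support (kernel ε), IsClosed ({x} : Set X) := fun x hx =>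
    isClosed_singleton_of_notMem h1 fun hη => hng x hη hx
  have e1 := Euler.euler_add k (CurveSlope.shortExact_cokernel_of_mono h) hcW hcZ hcC
  have e2 := Euler.euler_add k (CurveSlope.shortExact_kernel_of_epi ε) hNc hcC hKc
  have e3 := Euler.euler_add k (CurveSlope.shortExact_kernel_of_epi gUY) hKc hcU hcY
  dsimp only at e1 e2 e3
  refine ⟨by have := euler_nonneg_of_closedPoints k hNc hcl; linarith, fun hc => ?_⟩
  have hN : IsZero (kernel ε) := by
    rw [IsZero.iff_id_eq_zero, ← cancel_mono (kernel.ι ε), zero_comp, Category.id_comp]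
    rcases hc with hWe | hUf
    · -- `C = F'_Z` is torsion-free
      haveI : Epi (cokernel.π h) := inferInstance
      have hz : h = 0 := (cancel_epi gYW).1 ((hom_eq_zero hcZ.1 htZ (gYW ≫ h) fun η hη hs a => by
        rw [sm_comp, eq_zero_of_notMem (hsW.symm ▸ hWe η hη) (sm gYW η a), map_zero]).trans comp_zero.symm)
      haveI : IsIso (cokernel.π h) := ⟨cokernel.desc h (𝟙 GZ) (by rw [Category.comp_id, hz]),
        cokernel.π_desc _ _ _, by rw [← cancel_epi (cokernel.π h), cokernel.π_desc_assoc, Category.id_comp,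
          Category.comp_id]⟩
      refine (cancel_mono (inv (cokernel.π h))).1 ?_
      rw [zero_comp]
      refine hom_eq_zero hcZ.1 htZ _ fun η hη hs a => ?_
      rw [sm_comp]
      have h0 := hng η hη
      rw [eq_zero_of_notMem h0 a, map_zero, map_zero]
    · -- `γ` is injective
      have hmU : Mono πU := mono_quot_of_all hFc hFt hrk hUf hsU
      haveI : Mono δ := by
        haveI : Mono (δ ≫ kernel.ι gUY) := by rw [kernel.lift_ι]; exact mono_comp _ _
        exact mono_of_mono δ (kernel.ι gUY)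
      haveI : Mono γ := mono_of_mono_fac hε
      haveI : IsIso γ := isIso_of_mono_of_epi γ
      haveI : Mono ε := by
        rw [show ε = inv γ ≫ δ by rw [← hε, IsIso.inv_hom_id_assoc]]
        infer_instance
      rw [kernel.ι_of_mono ε]
  have := euler_eq_zero_of_isZero' k hN
  linarith

end Euler

end Groth.Agent.TFOneX
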