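import Groth.Agent.TFOneX.Beta

/-!
The special fibre of a proper flat family over a discrete valuation ring and a modification of a flat module.
-/

set_option autoImplicit false
set_option linter.style.haveILetI false
set_option linter.unusedSectionVars false
set_option backward.isDefEq.respectTransparency false
set_option backward.isDefEq.respectTransparency.types false

universe u

open CategoryTheory CategoryTheory.Limits AlgebraicGeometry TopologicalSpace Opposite

namespace Groth.Agent.TFOneX

theorem exists_setup {R : Type u} [CommRing R] [IsDomain R] [IsDiscreteValuationRing R] {X : Scheme.{u}}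
    (f : X ⟶ Spec (CommRingCat.of R)) [IsProper f] {Xs : Scheme.{u}}
    [Xs.Over (Spec (CommRingCat.of (IsLocalRing.ResidueField R)))] {i : Xs ⟶ X}
    (hsq : IsPullback i (Xs ↘ Spec (CommRingCat.of (IsLocalRing.ResidueField R))) f
      (Spec.map (CommRingCat.ofHom (IsLocalRing.residue R))))
    {I : X.Modules} (hIc : Coh.IsCoh I) (hIf : FlatMod.IsFlatOver f I) {Y : Set Xs} {GY : Xs.Modules}
    {πY : (Scheme.Modules.pullback i).obj I ⟶ GY}
    (hGY : TFOne.IsQuotOn Xs ((Scheme.Modules.pullback i).obj I) Y GY πY) {IY : X.Modules}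
    (hIY : IY = kernel ((Scheme.Modules.pullbackPushforwardAdjunction i).unit.app I ≫
      (Scheme.Modules.pushforward i).map πY)) :
    IsProper (Xs ↘ Spec (CommRingCat.of (IsLocalRing.ResidueField R))) ∧
      Coh.IsCoh ((Scheme.Modules.pullback i).obj IY) ∧
      ∃ (α : GY ⟶ (Scheme.Modules.pullback i).obj IY) (β : (Scheme.Modules.pullback i).obj IY ⟶ kernel πY)
        (w : α ≫ β = 0), (ShortComplex.mk α β w).ShortExact := by
  letI : X.Over (Spec (CommRingCat.of R)) := ⟨f⟩
  haveI : IsProper (X ↘ Spec (CommRingCat.of R)) := (inferInstance : IsProper f)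
  obtain ⟨ϖ, hϖ⟩ := IsDiscreteValuationRing.exists_irreducible R
  haveI := isClosedImmersion_fibre (i := i) hsq
  haveI : IsLocallyNoetherian X := LocallyOfFiniteType.isLocallyNoetherian f
  haveI : CompactSpace X := QuasiCompact.compactSpace_of_compactSpace f
  haveI : AlgebraicGeometry.IsNoetherian X := {}
  haveI := hGY.1
  obtain ⟨hA', hseq⟩ := exists_fibre_sequence (i := i) hsq (ϖ := ϖ) hϖ.maximalIdeal_eq hIc hIf hϖ.ne_zero
    hGY.2.1 πY hIY
  haveI : IsLocallyNoetherian Xs := LocallyOfFiniteType.isLocallyNoetherian i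
  exact ⟨isProper_fibre (i := i) hsq, KZ.ClosedDev.isCoh_pull i hA', hseq⟩

end Groth.Agent.TFOneX
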