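import Groth.Agent.TFOneX.Rows
import Groth.Agent.QCoh.ClosedPush
import Groth.Agent.Lib.NegVanClosed

/-!
Torsion-free modules on a subcurve, seen on the reduced subscheme and on the curve.
-/

set_option autoImplicit false
set_option linter.style.haveILetI false
set_option linter.unusedSectionVars false
set_option backward.isDefEq.respectTransparency false
set_option backward.isDefEq.respectTransparency.types false

universe u

open CategoryTheory CategoryTheory.Limits AlgebraicGeometry TopologicalSpace Opposite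

namespace Groth.Agent.TFOneX

variable {X : Scheme.{u}}

theorem germ_push_eq_zero {Z : Scheme.{u}} (i : Z ⟶ X) [IsClosedImmersion i] {M : Z.Modules} {U : X.Opens} {z : Z}
    (hz : i z ∈ U) (s : Γ((Coh.push i).obj M, U))
    (h : M.presheaf.germ (i ⁻¹ᵁ U) z hz (show Γ(M, i ⁻¹ᵁ U) from s) = 0) :
    ((Coh.push i).obj M).presheaf.germ U (i z) hz s = 0 := by
  haveI := KFlatLib.isIso_stalkPushforward_closed i M z
  let φ := TopCat.Presheaf.stalkPushforward Ab.{u} i.base M.presheaf z
  have hinj : Function.Injective φ := (ConcreteCategory.bijective_of_isIso φ).1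
  refine hinj (Eq.trans ?_ (h.trans (map_zero φ.hom).symm))
  exact congrArg (fun ψ => ψ s) (TopCat.Presheaf.stalkPushforward_germ Ab.{u} i.base M.presheaf U z hz)

variable [IsNoetherian X] [AlgebraicGeometry.IsReduced X]

/-- The torsion criterion, by vanishing at the generic points. -/
theorem isTorsionFree_of_generic {M : X.Modules}
    (hcrit : ∀ (W : X.Opens) (t : Γ(M, W)),
      (∀ η ∈ genericPoints (X : Type u), ∀ h : η ∈ W, M.presheaf.germ W η h t = 0) → t = 0) :
    TorSh.IsTorsionFree M := fun x => by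
  refine ⟨fun r hr => ?_⟩
  rw [isSMulRegular_iff_right_eq_zero_of_smul]
  intro a ha
  obtain ⟨W, hxW, t, rfl⟩ := TopCat.Presheaf.exists_germ_eq M.presheaf a
  obtain ⟨O, hxO, hO⟩ := exists_nbhd_through x
  have hx : x ∈ W ⊓ O := ⟨hxW, hxO⟩
  rw [← M.presheaf.germ_res_apply (homOfLE (inf_le_left : W ⊓ O ≤ W)) x hx t, hcrit (W ⊓ O) (M.presheaf.map (homOfLE (inf_le_left : W ⊓ O ≤ W)).op t) fun η hη hηW => ?_, map_zero]
  rw [TopCat.Presheaf.germ_res_apply]
  have hsp : η ⤳ x := hO η hη hηW.2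
  letI := (NormAmpleX.isField_stalk_of_generic hη).toField
  obtain ⟨U, hxU, r, rfl⟩ := TopCat.Presheaf.exists_germ_eq X.presheaf r
  have hxUW : x ∈ U ⊓ W := ⟨hxU, hxW⟩
  have hne := map_ne_zero_of_isRegular hsp hη hr
  have h2 := congrArg (M.presheaf.stalkSpecializes hsp).hom ha
  rw [map_zero, ← X.presheaf.germ_res_apply (homOfLE (inf_le_left : U ⊓ W ≤ U)) x hxUW r,
    ← M.presheaf.germ_res_apply (homOfLE (inf_le_right : U ⊓ W ≤ W)) x hxUW t, ← QCoh.germ_smul',
    TopCat.Presheaf.germ_stalkSpecializes_apply, QCoh.germ_smul', TopCat.Presheaf.germ_res_apply,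
    TopCat.Presheaf.germ_res_apply] at h2
  rw [TopCat.Presheaf.germ_stalkSpecializes_apply] at hne
  exact (isUnit_iff_ne_zero.2 hne).smul_eq_zero.1 h2

variable {Y : Set X}

theorem germ_eq_zero_of_mem {W : X.affineOpens} (hY : IsClosed Y) {a : Γ(X, W.1)}
    (ha : a ∈ (VecSt.subschι X Y hY).ker.ideal W) {η : X} (hη : η ∈ genericPoints (X : Type u)) (hηY : η ∈ Y)
    (hηW : η ∈ W.1) : X.presheaf.germ W.1 η hηW a = 0 := by
  obtain ⟨y, rfl⟩ := (range_subschι Y hY).symm.subset hηY
  letI := (NormAmpleX.isField_stalk_of_generic hη).toField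
  refine ((VecSt.subschι X Y hY).stalkMap y).hom.injective ?_
  rw [Scheme.Hom.ker_apply] at ha
  rw [map_zero, Scheme.Hom.germ_stalkMap_apply, RingHom.mem_ker.1 ha, map_zero]

/-- A torsion-free module supported on a subcurve is killed by its ideal. -/
theorem killed_of_support (hY : IsClosed Y) {G : X.Modules} (hG : Coh.IsQCoh G) (htG : TorSh.IsTorsionFree G)
    (hs : CohB1.support G ⊆ Y) : KZ.ClosedDev.Killed (VecSt.subschι X Y hY) G := fun W a ha s => by
  refine TFCurvLib.eq_zero_of_germ_isField hG htG _ fun y hy hf => ?_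
  have hη := mem_genericPoints_of_isField hf
  by_cases hyY : y ∈ Y
  · rw [QCoh.germ_smul', germ_eq_zero_of_mem hY ha hη hyY hy, zero_smul]
  · exact eq_zero_of_notMem (fun h => hyY (hs h)) _

theorem exists_iso_push (hY : IsClosed Y) {G : X.Modules} (hG : Coh.IsQCoh G) (htG : TorSh.IsTorsionFree G)
    (hs : CohB1.support G ⊆ Y) :
    Nonempty (G ≅ (Coh.push (VecSt.subschι X Y hY)).obj ((Scheme.Modules.pullback (VecSt.subschι X Y hY)).obj G)) := by
  haveI := (QCoh.isIso_unit_closed_iff (VecSt.subschι X Y hY) hG).2 (killed_of_support hY hG htG hs)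
  exact ⟨asIso ((Scheme.Modules.pullbackPushforwardAdjunction (VecSt.subschι X Y hY)).unit.app G)⟩

theorem isTorsionFree_congr {A B : X.Modules} (e : A ≅ B) (hA : TorSh.IsTorsionFree A) : TorSh.IsTorsionFree B :=
  fun x => by
    haveI : Module.IsTorsionFree (X.presheaf.stalk x) ((DerSch.stalkFunctor X x).obj A) := hA x
    exact Function.Injective.moduleIsTorsionFree (sm e.inv x) (injective_sm e.inv x) fun r m => map_smul _ r m

theorem isTorsionFree_of_push (hY : IsClosed Y) {M : (VecSt.subsch X Y hY).Modules}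
    (hq : Coh.IsQCoh ((Coh.push (VecSt.subschι X Y hY)).obj M))
    (ht : TorSh.IsTorsionFree ((Coh.push (VecSt.subschι X Y hY)).obj M)) : TorSh.IsTorsionFree M := by
  haveI := isLocallyNoetherian_subsch Y hY
  haveI := isReduced_subsch Y hY
  haveI : CompactSpace (VecSt.subsch X Y hY) :=
    QuasiCompact.compactSpace_of_compactSpace (VecSt.subschι X Y hY)
  haveI : IsNoetherian (VecSt.subsch X Y hY) := {}
  refine isTorsionFree_of_generic fun W t h => ?_
  obtain ⟨U, rfl⟩ := KZ.ClosedDev.exists_preimage_eq (VecSt.subschι X Y hY) W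
  refine TFCurvLib.eq_zero_of_germ_isField hq ht (show Γ((Coh.push (VecSt.subschι X Y hY)).obj M, U) from t)
    fun y hy hf => ?_
  by_cases hyY : y ∈ Y
  · obtain ⟨y', hy', rfl⟩ := exists_generic_over hY (mem_genericPoints_of_isField hf) hyY
    exact germ_push_eq_zero _ _ _ (h y' hy' hy)
  · haveI := H23.ClosedPushLen.subsingleton_stalk (VecSt.subschι X Y hY) M
      (fun hr => hyY ((range_subschι Y hY).subset hr))
    exact Subsingleton.elim _ _

theorem isTorsionFree_push (hY : IsClosed Y) (hYs : VecSt.IsSubcurve X Y) {M : (VecSt.subsch X Y hY).Modules}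
    (hM : Coh.IsQCoh M) (ht : TorSh.IsTorsionFree M) :
    TorSh.IsTorsionFree ((Coh.push (VecSt.subschι X Y hY)).obj M) := by
  haveI := isLocallyNoetherian_subsch Y hY
  haveI := isReduced_subsch Y hY
  refine isTorsionFree_of_generic fun U t h => ?_
  refine TFCurvLib.eq_zero_of_germ_isField hM ht (show Γ(M, (VecSt.subschι X Y hY) ⁻¹ᵁ U) from t) fun y hy hf => ?_
  have hg := h _ (generic_of_subsch hY hYs (mem_genericPoints_of_isField hf)) hy
  haveI := KFlatLib.isIso_stalkPushforward_closed (VecSt.subschι X Y hY) M y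
  exact ((congrArg (fun ψ => ψ t)
    (TopCat.Presheaf.stalkPushforward_germ Ab.{u} (VecSt.subschι X Y hY).base M.presheaf U y hy)).symm.trans
      (congrArg (TopCat.Presheaf.stalkPushforward Ab.{u} (VecSt.subschι X Y hY).base M.presheaf y) hg)).trans
        (map_zero _)

variable {F G : X.Modules} {π : F ⟶ G}

/-- The quotient on a subcurve is torsion-free of rank one on it. -/
theorem isTF1_pullback (hY : IsClosed Y) (hYs : VecSt.IsSubcurve X Y) (hrk : TFOne.IsRkOne X F)
    (h : TFOne.IsQuotOn X F Y G π) :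
    TFOne.IsTF1 (VecSt.subsch X Y hY) ((Scheme.Modules.pullback (VecSt.subschι X Y hY)).obj G) := by
  haveI := h.1
  haveI := isLocallyNoetherian_subsch Y hY
  haveI := isReduced_subsch Y hY
  obtain ⟨e⟩ := exists_iso_push hY h.2.1.1 h.2.2.1 h.2.2.2.subset
  have hc := KZ.ClosedDev.isCoh_pull (VecSt.subschι X Y hY) h.2.1
  refine ⟨hc, isTorsionFree_of_push hY (QCoh.isCoh_push _ hc).1 (isTorsionFree_congr e h.2.2.1), fun y hy => ?_⟩
  generalize hMdef : (Scheme.Modules.pullback (VecSt.subschι X Y hY)).obj G = M at e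
  let ι := VecSt.subschι X Y hY
  have hη := generic_of_subsch hY hYs hy
  have hηY : ι y ∈ Y := (range_subschι Y hY).subset ⟨y, rfl⟩
  letI : Module (X.presheaf.stalk (ι y)) (M.presheaf.stalk y) := Module.compHom _ (ι.stalkMap y).hom
  obtain ⟨e1⟩ := NegVanClosed.nonempty_stalk_push_equiv ι M y
  obtain ⟨e0⟩ := hrk (ι y) hη
  let π' : F.presheaf.stalk (ι y) ≃ₗ[X.presheaf.stalk (ι y)] G.presheaf.stalk (ι y) :=
    LinearEquiv.ofBijective (sm π (ι y)) (bijective_at hrk π hη (h.2.2.2.symm ▸ hηY))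
  let e2 : G.presheaf.stalk (ι y) ≃ₗ[X.presheaf.stalk (ι y)] ((Coh.push ι).obj M).presheaf.stalk (ι y) :=
    ((DerSch.stalkFunctor X (ι y)).mapIso e).toLinearEquiv
  let E : M.presheaf.stalk y ≃ₗ[X.presheaf.stalk (ι y)] X.presheaf.stalk (ι y) :=
    (π'.trans (e2.trans e1)).symm.trans e0
  letI := (NormAmpleX.isField_stalk_of_generic hη).toField
  have hinj : Function.Injective (ι.stalkMap y).hom := (ι.stalkMap y).hom.injective
  let χ : X.presheaf.stalk (ι y) ≃+* (VecSt.subsch X Y hY).presheaf.stalk y :=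
    RingEquiv.ofBijective (ι.stalkMap y).hom ⟨hinj, ι.stalkMap_surjective y⟩
  exact ⟨{ E.toAddEquiv.trans χ.toAddEquiv with
    map_smul' := fun r m => by
      obtain ⟨r, rfl⟩ := χ.surjective r
      show χ (E (χ r • m)) = χ r * χ (E m)
      rw [show χ r • m = r • m from rfl, map_smul, smul_eq_mul, map_mul] }⟩

theorem mem_support_push_iff (hY : IsClosed Y) {M : (VecSt.subsch X Y hY).Modules} {x : X} :
    x ∈ CohB1.support ((Coh.push (VecSt.subschι X Y hY)).obj M) ↔
      x ∈ VecSt.subschι X Y hY '' CohB1.support M := by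
  refine ⟨fun h => ?_, fun ⟨y, hy, hyx⟩ => hyx ▸ mem_support_push _ hy⟩
  by_cases hx : x ∈ Set.range (VecSt.subschι X Y hY)
  · obtain ⟨y, rfl⟩ := hx
    refine ⟨y, fun hs => h ?_, rfl⟩
    obtain ⟨e⟩ := NegVanClosed.nonempty_stalk_push_equiv (VecSt.subschι X Y hY) M y
    haveI : Subsingleton (M.presheaf.stalk y) := hs
    exact e.toEquiv.subsingleton
  · exact absurd (H23.ClosedPushLen.subsingleton_stalk (VecSt.subschι X Y hY) M hx) h

theorem isSubcurve_image (hY : IsClosed Y) (hYs : VecSt.IsSubcurve X Y) {T : Set (VecSt.subsch X Y hY)}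
    (hT : VecSt.IsSubcurve (VecSt.subsch X Y hY) T) : VecSt.IsSubcurve X (VecSt.subschι X Y hY '' T) := by
  obtain ⟨S, hS, hne, rfl⟩ := hT
  refine ⟨Set.image (VecSt.subschι X Y hY) '' S, ?_, hne.image _, by rw [Set.sUnion_image, Set.image_sUnion, Set.sUnion_image]⟩
  rintro _ ⟨D, hD, rfl⟩
  have hg := genericPoints.isGenericPoint_ofComponent ⟨D, hS hD⟩
  have hi := generic_of_subsch hY hYs (genericPoints.ofComponent ⟨D, hS hD⟩).2
  have himg : VecSt.subschι X Y hY '' D = closure {VecSt.subschι X Y hY (genericPoints.ofComponent ⟨D, hS hD⟩)} := by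
    conv_lhs => rw [show D = closure {genericPoints.ofComponent ⟨D, hS hD⟩ |>.1} from hg.def.symm]
    rw [← (VecSt.subschι X Y hY).isClosedEmbedding.closure_image_eq, Set.image_singleton]
  rw [himg]
  exact hi

/-- A quotient of the restriction gives a quotient on the curve. -/
theorem isQuotOn_push (hY : IsClosed Y) (hYs : VecSt.IsSubcurve X Y) (h : TFOne.IsQuotOn X F Y G π)
    (e : G ≅ (Coh.push (VecSt.subschι X Y hY)).obj ((Scheme.Modules.pullback (VecSt.subschι X Y hY)).obj G))
    {T : Set (VecSt.subsch X Y hY)} {H : (VecSt.subsch X Y hY).Modules}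
    {π' : (Scheme.Modules.pullback (VecSt.subschι X Y hY)).obj G ⟶ H}
    (hH : TFOne.IsQuotOn (VecSt.subsch X Y hY) ((Scheme.Modules.pullback (VecSt.subschι X Y hY)).obj G) T H π') :
    TFOne.IsQuotOn X F (VecSt.subschι X Y hY '' T) ((Coh.push (VecSt.subschι X Y hY)).obj H)
      (π ≫ e.hom ≫ (Coh.push (VecSt.subschι X Y hY)).map π') := by
  haveI := h.1
  haveI := hH.1
  haveI := epi_push (i := VecSt.subschι X Y hY) π'
  refine ⟨inferInstance, QCoh.isCoh_push _ hH.2.1, isTorsionFree_push hY hYs hH.2.1.1 hH.2.2.1, ?_⟩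
  ext x
  rw [mem_support_push_iff hY, hH.2.2.2]

end Groth.Agent.TFOneX
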