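import Groth.Agent.TFOneX.Fibre2
import Groth.Agent.FFun.Basic

/-!
A tower of elementary modifications along a subcurve, all of which decompose.
-/

set_option autoImplicit false
set_option linter.style.haveILetI false
set_option linter.unusedSectionVars false
set_option backward.isDefEq.respectTransparency false
set_option backward.isDefEq.respectTransparency.types false

universe u

open CategoryTheory CategoryTheory.Limits AlgebraicGeometry TopologicalSpace Opposite

noncomputable section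

namespace Groth.Agent.TFOneX

/-- In a decomposed module the kernel of the projection to the first factor is the second factor. -/
theorem isIso_kernel_comp {C : Type*} [Category C] [Abelian C] {M G G' : C} (π : M ⟶ G) (π' : M ⟶ G')
    [IsIso (biprod.lift π π')] : IsIso (kernel.ι π ≫ π') := by
  have e1 : inv (biprod.lift π π') ≫ π = biprod.fst := by rw [IsIso.inv_comp_eq, biprod.lift_fst]
  have e2 : inv (biprod.lift π π') ≫ π' = biprod.snd := by rw [IsIso.inv_comp_eq, biprod.lift_snd]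
  refine ⟨kernel.lift π (biprod.inr ≫ inv (biprod.lift π π')) ?_, ?_, ?_⟩
  · rw [Category.assoc, e1, biprod.inr_fst]
  · rw [← cancel_mono (kernel.ι π), Category.assoc, Category.id_comp, kernel.lift_ι,
      ← cancel_mono (biprod.lift π π')]
    simp only [Category.assoc, IsIso.inv_hom_id, Category.comp_id]
    refine biprod.hom_ext _ _ ?_ ?_ <;> simp
  · rw [kernel.lift_ι_assoc, Category.assoc, e2, biprod.inr_snd]

/-- The key property of one decomposed step: the submodule meeting the kernel trivially is all of the first factor. -/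
theorem isIso_comp_of_decomp {C : Type*} [Category C] [Abelian C] {G M K G₁ G₂ : C} {α : G ⟶ M} {β : M ⟶ K}
    {w : α ≫ β = 0} (hS : (ShortComplex.mk α β w).ShortExact) {π₁ : M ⟶ G₁} {π₂ : M ⟶ G₂}
    [IsIso (biprod.lift π₁ π₂)] (g : K ⟶ G₂) (g' : G₂ ⟶ K) (hg : β ≫ g = π₂) (hg' : π₂ ≫ g' = β) :
    IsIso (α ≫ π₁) := by
  haveI := hS.mono_f
  have h2 : α ≫ π₂ = 0 := by rw [← hg, ← Category.assoc, w, zero_comp]
  let s := biprod.inl ≫ inv (biprod.lift π₁ π₂)
  have e1 : inv (biprod.lift π₁ π₂) ≫ π₁ = biprod.fst := by rw [IsIso.inv_comp_eq, biprod.lift_fst]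
  have e2 : inv (biprod.lift π₁ π₂) ≫ π₂ = biprod.snd := by rw [IsIso.inv_comp_eq, biprod.lift_snd]
  have hs1 : s ≫ π₁ = 𝟙 G₁ := by rw [Category.assoc, e1, biprod.inl_fst]
  have hs2 : s ≫ π₂ = 0 := by rw [Category.assoc, e2, biprod.inl_snd]
  have hsβ : s ≫ β = 0 := by rw [← hg', ← Category.assoc, hs2, zero_comp]
  refine ⟨hS.exact.lift s hsβ, ?_, ?_⟩
  · rw [← cancel_mono α, Category.assoc, ← cancel_mono (biprod.lift π₁ π₂)]
    simp only [Category.assoc, Category.id_comp]
    rw [reassoc_of% (hS.exact.lift_f s hsβ)]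
    refine biprod.hom_ext _ _ ?_ ?_
    · simp [hs1]
    · simp [hs2, h2]
  · rw [← Category.assoc, hS.exact.lift_f, hs1]

variable {R : Type u} [CommRing R] [IsDomain R] [IsDiscreteValuationRing R]
  {X : Scheme.{u}} [X.Over (Spec (CommRingCat.of R))] [IsProper (X ↘ Spec (CommRingCat.of R))]
  {Xs : Scheme.{u}} [Xs.Over (Spec (CommRingCat.of (IsLocalRing.ResidueField R)))] {i : Xs ⟶ X}
  [AlgebraicGeometry.IsReduced Xs]
  (hsq : IsPullback i (Xs ↘ Spec (CommRingCat.of (IsLocalRing.ResidueField R)))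
    (X ↘ Spec (CommRingCat.of R)) (Spec.map (CommRingCat.ofHom (IsLocalRing.residue R))))
  {ϖ : R} (hϖ : IsLocalRing.maximalIdeal R = Ideal.span {ϖ}) (hne : ϖ ≠ 0)
  (In : ℕ → X.Modules) (hIc : Coh.IsCoh (In 0))
  (hIf : FlatMod.IsFlatOver (X ↘ Spec (CommRingCat.of R)) (In 0))
  (hIs : TFOne.IsTF1 Xs ((Scheme.Modules.pullback i).obj (In 0)))
  {Y Y' : Set Xs} (G G' : ℕ → Xs.Modules)
  (π : ∀ n : ℕ, (Scheme.Modules.pullback i).obj (In n) ⟶ G n)
  (π' : ∀ n : ℕ, (Scheme.Modules.pullback i).obj (In n) ⟶ G' n)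
  (hG : ∀ n : ℕ, TFOne.IsQuotOn Xs ((Scheme.Modules.pullback i).obj (In n)) Y (G n) (π n))
  (hG' : ∀ n : ℕ, TFOne.IsQuotOn Xs ((Scheme.Modules.pullback i).obj (In n)) Y' (G' n) (π' n))
  (hstep : ∀ n : ℕ, In (n + 1) = kernel ((Scheme.Modules.pullbackPushforwardAdjunction i).unit.app (In n) ≫
    (Scheme.Modules.pushforward i).map (π n)))
  (hdec : ∀ n : ℕ, IsIso (biprod.lift (π n) (π' n)))

include hsq hϖ hne hG hG' hstep hdec hIc hIf hIs in
/-- The maps between consecutive stages. -/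
theorem exists_maps : ∃ (j : ∀ n, In (n + 1) ⟶ In n) (θ : ∀ n, In n ⟶ In (n + 1)),
    (∀ n, Coh.IsCoh (In n)) ∧ (∀ n, Mono (j n)) ∧
    (∀ n, j n ≫ (Scheme.Modules.pullbackPushforwardAdjunction i).unit.app (In n) ≫
      (Scheme.Modules.pushforward i).map (π n) = 0) ∧
    (∀ n {T : X.Modules} (g : T ⟶ In n), g ≫ (Scheme.Modules.pullbackPushforwardAdjunction i).unit.app (In n) ≫
      (Scheme.Modules.pushforward i).map (π n) = 0 → ∃ g' : T ⟶ In (n + 1), g' ≫ j n = g) ∧
    (∀ n, θ n ≫ j n = Formal.smulMod R (In n) ϖ) ∧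
    (∀ n, ∃ e : G n ⟶ G (n + 1), IsIso e ∧ (Scheme.Modules.pullback i).map (θ n) ≫ π (n + 1) = π n ≫ e) := by
  haveI := isClosedImmersion_fibre (i := i) hsq
  haveI : IsProper (Xs ↘ Spec (CommRingCat.of (IsLocalRing.ResidueField R))) := isProper_fibre (i := i) hsq
  haveI := CurveCohLib.isNoetherian_of_proper (k := IsLocalRing.ResidueField R) (X := Xs)
  haveI : IsLocallyNoetherian X := LocallyOfFiniteType.isLocallyNoetherian (X ↘ Spec (CommRingCat.of R))
  haveI : CompactSpace X := QuasiCompact.compactSpace_of_compactSpace (X ↘ Spec (CommRingCat.of R))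
  haveI : AlgebraicGeometry.IsNoetherian X := {}
  have main : ∀ n, Coh.IsCoh (In n) → Mono (Formal.smulMod R (In n) ϖ) →
      TFOne.IsTF1 Xs ((Scheme.Modules.pullback i).obj (In n)) →
      ∃ (j : In (n + 1) ⟶ In n) (θ : In n ⟶ In (n + 1)), Mono j ∧
        (j ≫ (Scheme.Modules.pullbackPushforwardAdjunction i).unit.app (In n) ≫
          (Scheme.Modules.pushforward i).map (π n) = 0) ∧
        (∀ {T : X.Modules} (g : T ⟶ In n), g ≫ (Scheme.Modules.pullbackPushforwardAdjunction i).unit.app (In n) ≫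
          (Scheme.Modules.pushforward i).map (π n) = 0 → ∃ g' : T ⟶ In (n + 1), g' ≫ j = g) ∧
        θ ≫ j = Formal.smulMod R (In n) ϖ ∧ Coh.IsCoh (In (n + 1)) ∧
        Mono (Formal.smulMod R (In (n + 1)) ϖ) ∧
        TFOne.IsTF1 Xs ((Scheme.Modules.pullback i).obj (In (n + 1))) ∧
        ∃ e : G n ⟶ G (n + 1), IsIso e ∧ (Scheme.Modules.pullback i).map θ ≫ π (n + 1) = π n ≫ e := by
    intro n hc hm ht
    haveI := hm
    haveI := (hG n).1
    obtain ⟨hc', j, θ, α, β, w, hS, hj, hj0, hjl, hθ, hα⟩ :=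
      exists_fibre_sequence_of_mono hsq hϖ hc hm (hG n).2.1 (π n) (hstep n)
    haveI := hj
    have hrk' := isRkOne_of_ext ht.2.2 (hG n) hS
    have htf' := isTorsionFree_of_ext ht.2.1 (hG n).2.2.1 hS
    haveI : IsLocallyNoetherian Xs := LocallyOfFiniteType.isLocallyNoetherian i
    have hpc := KZ.ClosedDev.isCoh_pull i hc'
    refine ⟨j, θ, hj, hj0, hjl, hθ, hc', ?_, ⟨hpc, htf', hrk'⟩, ?_⟩
    · refine Preadditive.mono_of_cancel_zero _ fun g hg => ?_
      rw [← cancel_mono j, zero_comp, ← cancel_mono (Formal.smulMod R (In n) ϖ), zero_comp, Category.assoc,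
        ← FFun.smulMod_naturality, ← Category.assoc, hg, zero_comp]
    · -- the kernel of the first projection is the torsion-free quotient on the other curve
      haveI := hdec n
      haveI := hdec (n + 1)
      haveI := isIso_kernel_comp (π n) (π' n)
      have hK : Coh.IsCoh (kernel (π n)) := QCoh.isCoh_kernel ht.1 (hG n).2.1 (π n)
      haveI := hS.epi_g
      let eK : kernel (π n) ≅ G' n := asIso (kernel.ι (π n) ≫ π' n)
      have hKq : TFOne.IsQuotOn Xs ((Scheme.Modules.pullback i).obj (In (n + 1))) Y' (kernel (π n)) β := by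
        refine ⟨hS.epi_g, hK, fun x => ?_, ?_⟩
        · haveI : Module.IsTorsionFree (Xs.presheaf.stalk x) ((DerSch.stalkFunctor Xs x).obj (G' n)) :=
            (hG' n).2.2.1 x
          exact Function.Injective.moduleIsTorsionFree (sm eK.hom x) (injective_sm eK.hom x) fun r m => map_smul _ r m
        · rw [← (hG' n).2.2.2]
          exact Set.Subset.antisymm (support_subset_of_mono eK.hom) (support_subset_of_mono eK.inv)
      obtain ⟨g, hg, -⟩ := exists_desc hrk' hKq (hG' (n + 1)) fun η _ h => h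
      obtain ⟨g', hg', -⟩ := exists_desc hrk' (hG' (n + 1)) hKq fun η _ h => h
      refine ⟨α ≫ π (n + 1), isIso_comp_of_decomp hS g g' hg hg', ?_⟩
      rw [← Category.assoc, hα]
  have inv : ∀ n, Coh.IsCoh (In n) ∧ Mono (Formal.smulMod R (In n) ϖ) ∧
      TFOne.IsTF1 Xs ((Scheme.Modules.pullback i).obj (In n)) := by
    intro n
    induction n with
    | zero => exact ⟨hIc, mono_smulMod (ϖ := ϖ) hIc.1 hIf hne, hIs⟩
    | succ n ih =>
      obtain ⟨_, _, _, _, _, _, h1, h2, h3, -⟩ := main n ih.1 ih.2.1 ih.2.2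
      exact ⟨h1, h2, h3⟩
  choose j θ h1 h2 h3 h4 h5 h6 h7 h8 using fun n => main n (inv n).1 (inv n).2.1 (inv n).2.2
  exact ⟨j, θ, fun n => (inv n).1, h1, h2, fun n T g hg => h3 n g hg, h4, h8⟩

end Groth.Agent.TFOneX
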