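import Groth.Agent.TFOneX.Tower

/-!
The compatible system of quotients of the first stage of a decomposed tower.
-/

set_option autoImplicit false
set_option linter.style.haveILetI false
set_option linter.unusedSectionVars false
set_option backward.isDefEq.respectTransparency false
set_option backward.isDefEq.respectTransparency.types false

universe u

open CategoryTheory CategoryTheory.Limits AlgebraicGeometry TopologicalSpace Opposite

noncomputable section

namespace Groth.Agent.TFOneX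

variable {R : Type u} [CommRing R] {X : Scheme.{u}} [X.Over (Spec (CommRingCat.of R))]

/-- The composite inclusion of a stage into the first one. -/
def incl {In : ℕ → X.Modules} (j : ∀ n, In (n + 1) ⟶ In n) : ∀ n, In n ⟶ In 0
  | 0 => 𝟙 _
  | n + 1 => j n ≫ incl j n

/-- The iterated multiplication into a stage. -/
def powMap {In : ℕ → X.Modules} (θ : ∀ n, In n ⟶ In (n + 1)) : ∀ n, In 0 ⟶ In n
  | 0 => 𝟙 _
  | n + 1 => powMap θ n ≫ θ n

variable {Xs : Scheme.{u}} {i : Xs ⟶ X}

variable {ϖ : R} {In : ℕ → X.Modules} {G : ℕ → Xs.Modules}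
  {π : ∀ n : ℕ, (Scheme.Modules.pullback i).obj (In n) ⟶ G n}
  {j : ∀ n, In (n + 1) ⟶ In n} {θ : ∀ n, In n ⟶ In (n + 1)}

theorem mono_incl (hj : ∀ n, Mono (j n)) : ∀ n, Mono (incl j n)
  | 0 => inferInstanceAs (Mono (𝟙 _))
  | n + 1 => by
    haveI := hj n
    haveI := mono_incl hj n
    exact inferInstanceAs (Mono (j n ≫ incl j n))

theorem θ_incl (hθ : ∀ n, θ n ≫ j n = Formal.smulMod R (In n) ϖ) (n : ℕ) :
    θ n ≫ incl j (n + 1) = incl j n ≫ Formal.smulMod R (In 0) ϖ := by
  show θ n ≫ j n ≫ incl j n = _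
  rw [← Category.assoc, hθ, FFun.smulMod_naturality]

theorem powMap_incl (hθ : ∀ n, θ n ≫ j n = Formal.smulMod R (In n) ϖ) :
    ∀ n, powMap θ n ≫ incl j n = Formal.smulMod R (In 0) (ϖ ^ n)
  | 0 => by
    rw [pow_zero, FFun.smulMod_one]
    exact Category.id_comp _
  | n + 1 => by
    show (powMap θ n ≫ θ n) ≫ incl j (n + 1) = _
    rw [Category.assoc, θ_incl hθ, ← Category.assoc, powMap_incl hθ n, pow_succ', FFun.smulMod_mul]

variable [IsClosedImmersion i]

/-- The composite to the quotient on the special fibre. -/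
abbrev stageπ (π : ∀ n : ℕ, (Scheme.Modules.pullback i).obj (In n) ⟶ G n) (n : ℕ) :
    In n ⟶ (Scheme.Modules.pushforward i).obj (G n) :=
  (Scheme.Modules.pullbackPushforwardAdjunction i).unit.app (In n) ≫ (Scheme.Modules.pushforward i).map (π n)

theorem stageπ_θ {e : ∀ n, G n ⟶ G (n + 1)}
    (he : ∀ n, (Scheme.Modules.pullback i).map (θ n) ≫ π (n + 1) = π n ≫ e n) (n : ℕ) :
    θ n ≫ stageπ π (n + 1) = stageπ π n ≫ (Scheme.Modules.pushforward i).map (e n) := by
  have h : θ n ≫ (Scheme.Modules.pullbackPushforwardAdjunction i).unit.app (In (n + 1)) =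
      (Scheme.Modules.pullbackPushforwardAdjunction i).unit.app (In n) ≫
        (Scheme.Modules.pushforward i).map ((Scheme.Modules.pullback i).map (θ n)) :=
    (Scheme.Modules.pullbackPushforwardAdjunction i).unit.naturality (θ n)
  simp only [stageπ]
  rw [← Category.assoc, h, Category.assoc, ← Functor.map_comp, he, Functor.map_comp, Category.assoc]

/-- Every stage is the next one plus the multiples of the first one. -/
theorem eq_zero_of_gen (hIc : ∀ n, Coh.IsCoh (In n)) (hπ : ∀ n, Epi (π n))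
    (hlift : ∀ n {T : X.Modules} (g : T ⟶ In n), g ≫ stageπ π n = 0 → ∃ g' : T ⟶ In (n + 1), g' ≫ j n = g)
    {e : ∀ n, G n ⟶ G (n + 1)} (hiso : ∀ n, IsIso (e n))
    (he : ∀ n, (Scheme.Modules.pullback i).map (θ n) ≫ π (n + 1) = π n ≫ e n)
    (n : ℕ) {T : X.Modules} (g : In n ⟶ T) (h1 : j n ≫ g = 0) (h2 : powMap θ n ≫ g = 0) : g = 0 := by
  have hepi : ∀ m, Epi (powMap θ m ≫ stageπ π m) := by
    intro m
    induction m with
    | zero =>
      haveI := hπ 0
      haveI := epi_unit i (hIc 0).1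
      haveI := epi_push i (π 0)
      show Epi (𝟙 _ ≫ stageπ π 0)
      infer_instance
    | succ m ih =>
      haveI := ih
      haveI := hiso m
      show Epi ((powMap θ m ≫ θ m) ≫ stageπ π (m + 1))
      rw [Category.assoc, stageπ_θ he, ← Category.assoc]
      infer_instance
  haveI := hπ n
  haveI := epi_unit i (hIc n).1
  haveI := epi_push i (π n)
  haveI : Epi (stageπ π n) := epi_comp _ _
  obtain ⟨l, hl⟩ := hlift n (kernel.ι (stageπ π n)) (kernel.condition _)
  have hk : kernel.ι (stageπ π n) ≫ g = 0 := by rw [← hl, Category.assoc, h1, comp_zero]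
  haveI := hepi n
  rw [← Abelian.comp_epiDesc (stageπ π n) g hk] at h2 ⊢
  rw [← Category.assoc] at h2
  rw [zero_of_epi_comp _ h2, comp_zero]

/-- Dividing by the uniformiser moves one stage down. -/
theorem exists_div (hj : ∀ n, Mono (j n)) (hθ : ∀ n, θ n ≫ j n = Formal.smulMod R (In n) ϖ)
    (hzero : ∀ n, j n ≫ stageπ π n = 0)
    (hlift : ∀ n {T : X.Modules} (g : T ⟶ In n), g ≫ stageπ π n = 0 → ∃ g' : T ⟶ In (n + 1), g' ≫ j n = g)
    {e : ∀ n, G n ⟶ G (n + 1)} (hiso : ∀ n, IsIso (e n))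
    (he : ∀ n, (Scheme.Modules.pullback i).map (θ n) ≫ π (n + 1) = π n ≫ e n) :
    ∀ (n : ℕ) {T : X.Modules} (x : T ⟶ In 0) (y : T ⟶ In (n + 1)),
      x ≫ Formal.smulMod R (In 0) ϖ = y ≫ incl j (n + 1) → ∃ x' : T ⟶ In n, x' ≫ incl j n = x
  | 0, T, x, _, _ => ⟨x, Category.comp_id x⟩
  | n + 1, T, x, y, h => by
    obtain ⟨x', rfl⟩ := exists_div hj hθ hzero hlift hiso he n x (y ≫ j (n + 1))
      (h.trans (Category.assoc y (j (n + 1)) (incl j (n + 1))).symm)
    haveI := mono_incl hj (n + 1)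
    rw [Category.assoc, ← θ_incl hθ, show incl j (n + 1 + 1) = j (n + 1) ≫ incl j (n + 1) from rfl,
      ← Category.assoc, ← Category.assoc, cancel_mono] at h
    have h2 : (x' ≫ θ n) ≫ stageπ π (n + 1) = 0 := by rw [h, Category.assoc, hzero, comp_zero]
    haveI := hiso n
    rw [Category.assoc, stageπ_θ he, ← Category.assoc] at h2
    haveI : Mono ((Scheme.Modules.pushforward i).map (e n)) := inferInstance
    obtain ⟨x'', hx''⟩ := hlift n x' (zero_of_comp_mono _ h2)
    refine ⟨x'', ?_⟩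
    show x'' ≫ j n ≫ incl j n = _
    rw [← Category.assoc, hx'']

end Groth.Agent.TFOneX
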